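import Groth.Agent.DVRCrit.Spread
import Mathlib

/-!
# Properness over a neighbourhood of a point satisfying the valuative criterion
-/

open CategoryTheory CategoryTheory.Limits AlgebraicGeometry IsLocalRing TopologicalSpace

universe u

set_option backward.isDefEq.respectTransparency false
set_option backward.defeqAttrib.useBackward true

namespace Groth.Agent.DVRCrit

variable {X Y : Scheme.{u}}

/-- A morphism from a reduced scheme into the range of a closed immersion factors. -/
theorem exists_factor_closed {Z T : Scheme.{u}} (i : Z ⟶ X) [IsClosedImmersion i] [IsReduced T]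
    (g : T ⟶ X) (h : Set.range g ⊆ Set.range i) : ∃ g' : T ⟶ Z, g' ≫ i = g := by
  have : Surjective (pullback.snd i g) := ⟨fun t => by
    obtain ⟨z, hz⟩ := h ⟨t, rfl⟩
    obtain ⟨w, -, hw⟩ := Scheme.Pullback.exists_preimage_pullback (f := i) (g := g) z t hz
    exact ⟨w, hw⟩⟩
  have := isIso_of_isClosedImmersion_of_surjective (pullback.snd i g)
  exact ⟨inv (pullback.snd i g) ≫ pullback.fst i g, by
    rw [Category.assoc, pullback.condition, IsIso.inv_hom_id_assoc]⟩

theorem isReduced_vanishingIdeal (Z : Closeds X) :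
    IsReduced (Scheme.IdealSheafData.vanishingIdeal Z).subscheme := by
  let I := Scheme.IdealSheafData.vanishingIdeal Z
  haveI : ∀ U : X.affineOpens, IsReduced (I.subschemeCover.openCover.X U) := fun U => by
    have hrad : (I.ideal U).IsRadical := by
      rw [Scheme.IdealSheafData.vanishingIdeal_ideal]
      exact PrimeSpectrum.isRadical_vanishingIdeal _
    have : _root_.IsReduced (Γ(X, U) ⧸ I.ideal U) :=
      (Ideal.isRadical_iff_quotient_reduced _).mp hrad
    exact (affine_isReduced_iff _).mpr this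
  exact AlgebraicGeometry.IsReduced.of_openCover _ I.subschemeCover.openCover

/-- The valuative criterion at a point, for discrete valuation rings. -/
def LiftAt (f : X ⟶ Y) (y : Y) : Prop :=
  ∀ (A : Type u) [CommRing A] [IsDomain A] [IsDiscreteValuationRing A]
    (σ : Spec (CommRingCat.of (FractionRing A)) ⟶ X) (g : Spec (CommRingCat.of A) ⟶ Y),
    g (closedPoint A) = y →
    σ ≫ f = Spec.map (CommRingCat.ofHom (algebraMap A (FractionRing A))) ≫ g →
      ∃ l : Spec (CommRingCat.of A) ⟶ X, l ≫ f = g ∧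
        Spec.map (CommRingCat.ofHom (algebraMap A (FractionRing A))) ≫ l = σ

theorem centreAt_of_liftAt [IsIntegral X] {f : X ⟶ Y} {y : Y} (hf : LiftAt f y) : CentreAt f y := by
  intro V hV hy h R hR hC hn
  let χ : Γ(Y, V) ⟶ CommRingCat.of R :=
    CommRingCat.ofHom ((toFF f V h).codRestrict R.toSubring hC)
  let g := Spec.map χ ≫ hV.fromSpec
  have hg : g (closedPoint R) = y := by
    have e : Spec.map χ (closedPoint R) = hV.primeIdealOf ⟨y, hy⟩ := by
      refine PrimeSpectrum.ext (Ideal.ext fun c => ?_)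
      exact (ValuationSubring.coe_mem_nonunits_iff (a := χ c)).symm.trans (hn c)
    rw [Scheme.Hom.comp_apply, e]
    exact hV.fromSpec_primeIdealOf ⟨y, hy⟩
  let e := (FractionRing.algEquiv R X.functionField).symm
  let ι := Spec.map (CommRingCat.ofHom e.toRingEquiv.toRingHom)
  have hι : Spec.map (CommRingCat.ofHom e.symm.toRingEquiv.toRingHom) ≫ ι = 𝟙 _ := by
    rw [← Spec.map_comp, ← Spec.map_id]
    congr 1
    ext a
    exact e.symm_apply_apply a
  have hgen : X.fromSpecStalk (genericPoint X) ≫ f = incl R ≫ g := by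
    rw [← Scheme.SpecMap_stalkMap_fromSpecStalk, ← hV.fromSpecStalk_eq_fromSpecStalk h,
      IsAffineOpen.fromSpecStalk]
    simp only [incl, g, ← Spec.map_comp_assoc]
    rfl
  have hinc : Spec.map (CommRingCat.ofHom (algebraMap R (FractionRing R))) =
      ι ≫ incl R := by
    rw [← Spec.map_comp]
    congr 1
    ext a
    exact (e.commutes a).symm
  obtain ⟨l, hl, hl'⟩ := hf R (ι ≫ X.fromSpecStalk (genericPoint X)) g hg
    (by rw [Category.assoc, hgen, hinc, Category.assoc])
  have hm : incl R ≫ l = X.fromSpecStalk (genericPoint X) := by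
    have h1 := congrArg (Spec.map (CommRingCat.ofHom e.symm.toRingEquiv.toRingHom) ≫ ·) hl'
    simp only [hinc, Category.assoc, reassoc_of% hι] at h1
    exact h1
  refine ⟨l (closedPoint R), ?_, fun a => ?_⟩
  · have h2 : f (l (closedPoint R)) = g (closedPoint R) := by rw [← Scheme.Hom.comp_apply, hl]
    rw [h2, hg]; exact hy
  · rw [stalk_of_morphism R l hm a]
    exact (Scheme.stalkClosedPointTo l a).2

/-- A valuative square. -/
def mkSq (f : X ⟶ Y) (R : Type u) [CommRing R] [IsDomain R] [ValuationRing R] (K : Type u) [Field K]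
    [Algebra R K] [IsFractionRing R K] (i₁ : Spec (CommRingCat.of K) ⟶ X)
    (i₂ : Spec (CommRingCat.of R) ⟶ Y)
    (w : i₁ ≫ f = Spec.map (CommRingCat.ofHom (algebraMap R K)) ≫ i₂) : ValuativeCommSq f :=
  { R := R, K := K, i₁ := i₁, i₂ := i₂, commSq := ⟨w⟩ }

/-- Lifts over `U` give properness over `U`. -/
theorem isProper_restrict (f : X ⟶ Y) [IsSeparated f] [LocallyOfFiniteType f] [QuasiCompact f]
    (U : Y.Opens) (h : ∀ S : ValuativeCommSq f, S.i₂ (closedPoint S.R) ∈ U → S.commSq.HasLift) :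
    IsProper (f ∣_ U) := by
  have : UniversallyClosed (f ∣_ U) := by
    refine UniversallyClosed.of_valuativeCriterion _ ?_
    rintro ⟨R, K, i₁, i₂, ⟨w⟩⟩
    obtain ⟨l, hl₁, hl₂⟩ := (h (mkSq f R K (i₁ ≫ (f ⁻¹ᵁ U).ι) (i₂ ≫ U.ι)
      (by rw [Category.assoc, ← morphismRestrict_ι, reassoc_of% w]))
      (U.range_ι.le ⟨i₂ (closedPoint R), (Scheme.Hom.comp_apply _ _ _).symm⟩)).exists_lift
    have hp := (isPullback_morphismRestrict f U).flip
    refine ⟨⟨⟨hp.lift l i₂ hl₂, ?_, hp.lift_snd _ _ _⟩⟩⟩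
    apply hp.hom_ext
    · rw [Category.assoc, hp.lift_fst]; exact hl₁
    · rw [Category.assoc, hp.lift_snd]; exact w.symm
  exact { }

/-- The valuative criterion at a point, with the generic point on an integral scheme, holds on a
neighbourhood. -/
theorem exists_nhd_lift [IsIntegral X] [IsLocallyNoetherian Y] (f : X ⟶ Y) [IsSeparated f]
    [LocallyOfFiniteType f] [QuasiCompact f] (y : Y) (hf : CentreAt f y) :
    ∃ U : Y.Opens, y ∈ U ∧
      ∀ S : ValuativeCommSq f, S.i₂ (closedPoint S.R) ∈ U → S.commSq.HasLift := by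
  by_cases hy : f (genericPoint X) ⤳ y
  · obtain ⟨V, hV, hyV, hgood⟩ := exists_good_nhd f y hf hy
    exact ⟨V, hyV, fun S hS => exists_lift_of_centre f S hV hS hgood⟩
  · refine ⟨⟨(closure {f (genericPoint X)})ᶜ, isClosed_closure.isOpen_compl⟩, ?_, fun S hS => ?_⟩
    · exact fun h => hy (specializes_iff_mem_closure.mpr h)
    · exfalso
      apply hS
      refine specializes_iff_mem_closure.mp
        (((genericPoint_specializes (S.i₁ (closedPoint S.K))).map f.continuous).trans ?_)
      rw [← Scheme.Hom.comp_apply, S.commSq.w, Scheme.Hom.comp_apply]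
      exact (specializes_closedPoint (R := S.R) _).map S.i₂.continuous

theorem exists_isProper_restrict_of_liftAt [IsLocallyNoetherian Y] (f : X ⟶ Y) [IsSeparated f]
    [LocallyOfFiniteType f] [QuasiCompact f] (y : Y) (hf : LiftAt f y) :
    ∃ U : Y.Opens, y ∈ U ∧ IsProper (f ∣_ U) := by
  classical
  obtain ⟨_, ⟨V, hV, rfl⟩, hyV, -⟩ :=
    Y.isBasis_affineOpens.exists_subset_of_mem_open (Set.mem_univ y) isOpen_univ
  have : IsLocallyNoetherian X := LocallyOfFiniteType.isLocallyNoetherian f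
  have : CompactSpace (f ⁻¹ᵁ V : X.Opens) :=
    isCompact_iff_compactSpace.mp (f.isCompact_preimage hV.isCompact)
  have : IsLocallyNoetherian (f ⁻¹ᵁ V).toScheme :=
    LocallyOfFiniteType.isLocallyNoetherian (f ⁻¹ᵁ V).ι
  have : IsNoetherian (f ⁻¹ᵁ V).toScheme := { }
  have hfin := NoetherianSpace.finite_irreducibleComponents (α := ↥(f ⁻¹ᵁ V).toScheme)
  have hη : ∀ C : irreducibleComponents ↥(f ⁻¹ᵁ V).toScheme, ∃ η, IsGenericPoint η C.1 := fun C =>
    QuasiSober.sober C.2.1 (isClosed_of_mem_irreducibleComponents _ C.2)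
  choose η hη using hη
  let pt : irreducibleComponents ↥(f ⁻¹ᵁ V).toScheme → X := fun C => (f ⁻¹ᵁ V).ι (η C)
  let Zc : irreducibleComponents ↥(f ⁻¹ᵁ V).toScheme → Closeds X := fun C =>
    ⟨closure {pt C}, isClosed_closure⟩
  have hU : ∀ C, ∃ U : Y.Opens, y ∈ U ∧ ∀ S : ValuativeCommSq f,
      S.i₂ (closedPoint S.R) ∈ U → S.i₁ (closedPoint S.K) ∈ Zc C → S.commSq.HasLift := by
    intro C
    let I := Scheme.IdealSheafData.vanishingIdeal (Zc C)
    let ι := I.subschemeι
    have hrange : Set.range ι = closure {pt C} := by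
      rw [Scheme.IdealSheafData.range_subschemeι, Scheme.IdealSheafData.coe_support_vanishingIdeal]
      rfl
    have : IsReduced I.subscheme := isReduced_vanishingIdeal _
    have : IrreducibleSpace ↥I.subscheme := by
      have hirr : IsIrreducible (Set.range ι) := hrange ▸ isIrreducible_singleton.closure
      have h1 : IsIrreducible (Set.univ : Set ↥I.subscheme) := by
        obtain ⟨_, ⟨p₀, rfl⟩⟩ := hirr.1
        refine ⟨⟨p₀, trivial⟩, fun a b ha hb ha' hb' => ?_⟩
        obtain ⟨p, -, hp⟩ := ha'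
        obtain ⟨q, -, hq⟩ := hb'
        obtain ⟨a', ha'o, rfl⟩ := ι.isClosedEmbedding.isInducing.isOpen_iff.mp ha
        obtain ⟨b', hb'o, rfl⟩ := ι.isClosedEmbedding.isInducing.isOpen_iff.mp hb
        obtain ⟨_, ⟨r, rfl⟩, hr⟩ := hirr.2 a' b' ha'o hb'o ⟨ι p, ⟨p, rfl⟩, hp⟩ ⟨ι q, ⟨q, rfl⟩, hq⟩
        exact ⟨r, trivial, hr⟩
      exact (irreducibleSpace_def _).mpr h1
    have : IsIntegral I.subscheme := isIntegral_of_irreducibleSpace_of_isReduced _
    obtain ⟨U, hyU, hUlift⟩ := exists_nhd_lift (ι ≫ f) y (centreAt_of_liftAt (f := ι ≫ f) (by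
      intro A _ _ _ σ g hg w
      obtain ⟨l, hl, hl'⟩ := hf A (σ ≫ ι) g hg (by rw [Category.assoc]; exact w)
      have hsub : Set.range l ⊆ Set.range ι := by
        have hd : IsDominant (Spec.map (CommRingCat.ofHom (algebraMap A (FractionRing A)))) := by
          rw [isDominant_iff]
          exact PrimeSpectrum.denseRange_comap_iff_ker_le_nilRadical _ |>.mpr
            (((RingHom.injective_iff_ker_eq_bot _).mp
              (IsFractionRing.injective A (FractionRing A))).le.trans bot_le)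
        refine l.continuous.range_subset_closure_image_dense hd.denseRange |>.trans ?_
        refine closure_minimal ?_ ι.isClosedEmbedding.isClosed_range
        rintro _ ⟨_, ⟨s, rfl⟩, rfl⟩
        exact ⟨σ s, by rw [← Scheme.Hom.comp_apply, ← Scheme.Hom.comp_apply, hl']⟩
      obtain ⟨l', hl''⟩ := exists_factor_closed ι l hsub
      refine ⟨l', by rw [← Category.assoc, hl'', hl], ?_⟩
      rw [← cancel_mono ι, Category.assoc, hl'', hl']))
    refine ⟨U, hyU, fun S hS hSZ => ?_⟩
    obtain ⟨R, K, i₁, i₂, ⟨w⟩⟩ := S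
    obtain ⟨j, hj⟩ := exists_factor_closed ι i₁ (by
      rintro _ ⟨s, rfl⟩
      rw [hrange]
      rw [Subsingleton.elim s (closedPoint K)]
      exact hSZ)
    obtain ⟨l, hl₁, hl₂⟩ := (hUlift (mkSq (ι ≫ f) R K j i₂
      (by rw [← Category.assoc, hj, w])) hS).exists_lift
    refine ⟨⟨⟨l ≫ ι, ?_, by rw [Category.assoc]; exact hl₂⟩⟩⟩
    exact ((Category.assoc _ _ _).symm.trans (congrArg (· ≫ ι) hl₁)).trans hj
  choose U hyU hUlift using hU
  have := hfin.to_subtype
  refine ⟨V ⊓ ⟨⋂ C, (U C : Set Y), isOpen_iInter_of_finite fun C => (U C).2⟩,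
    ⟨hyV, Set.mem_iInter.mpr hyU⟩, isProper_restrict f _ fun S hS => ?_⟩
  have hxV : S.i₁ (closedPoint S.K) ∈ f ⁻¹ᵁ V := by
    show f (S.i₁ (closedPoint S.K)) ∈ V
    rw [← Scheme.Hom.comp_apply, S.commSq.w, Scheme.Hom.comp_apply]
    exact ((specializes_closedPoint (R := S.R) _).map S.i₂.continuous).mem_open V.2 hS.1
  let x' : ↥(f ⁻¹ᵁ V).toScheme := ⟨S.i₁ (closedPoint S.K), hxV⟩
  let C : irreducibleComponents ↥(f ⁻¹ᵁ V).toScheme :=
    ⟨irreducibleComponent x', irreducibleComponent_mem_irreducibleComponents x'⟩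
  refine hUlift C S (Set.mem_iInter.mp hS.2 C) ?_
  show S.i₁ (closedPoint S.K) ∈ closure {pt C}
  exact specializes_iff_mem_closure.mp
    (((hη C).specializes (mem_irreducibleComponent (x := x'))).map (f ⁻¹ᵁ V).ι.continuous)

theorem liftAt_of_universallyClosed_stalk (f : X ⟶ Y) (y : Y)
    [UniversallyClosed (pullback.snd f (Y.fromSpecStalk y))] : LiftAt f y := by
  intro A _ _ _ σ g hg w
  subst hg
  let g' : Spec (CommRingCat.of A) ⟶ Spec (Y.presheaf.stalk (g (closedPoint A))) :=
    Spec.map (Scheme.stalkClosedPointTo g)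
  have hg' : g' ≫ Y.fromSpecStalk _ = g := Scheme.Spec_stalkClosedPointTo_fromSpecStalk g
  have hE : ValuativeCriterion.Existence (pullback.snd f (Y.fromSpecStalk (g (closedPoint A)))) :=
    ((UniversallyClosed.eq_valuativeCriterion.le _ _ _) ‹_›).1
  obtain ⟨l, hl₁, hl₂⟩ := (hE (mkSq _ A (FractionRing A)
    (pullback.lift σ (Spec.map (CommRingCat.ofHom (algebraMap A (FractionRing A))) ≫ g')
      (by rw [Category.assoc, hg', w]))
    g' (by rw [pullback.lift_snd]))).exists_lift
  dsimp only [mkSq] at hl₁ hl₂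
  refine ⟨l ≫ pullback.fst _ _, ?_, ?_⟩
  · rw [Category.assoc, pullback.condition, reassoc_of% hl₂, hg']
  · rw [reassoc_of% hl₁, pullback.lift_fst]

/-- Properness over `Spec 𝒪_y` spreads to a neighbourhood of `y`. -/
theorem exists_isProper_restrict_of_stalk [IsLocallyNoetherian Y] (f : X ⟶ Y) [IsSeparated f]
    [LocallyOfFiniteType f] [QuasiCompact f] (y : Y)
    [UniversallyClosed (pullback.snd f (Y.fromSpecStalk y))] :
    ∃ U : Y.Opens, y ∈ U ∧ IsProper (f ∣_ U) :=
  exists_isProper_restrict_of_liftAt f y (liftAt_of_universallyClosed_stalk f y)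

end Groth.Agent.DVRCrit

namespace Groth.Agent.DVRCrit

variable {X Y : Scheme.{u}}

theorem centreAt_of_dominates [IsIntegral X] (f : X ⟶ Y) (y : Y)
    (hξ : f (genericPoint X) ⤳ y)
    (hf : ∀ A : ValuationSubring X.functionField, IsDiscreteValuationRing A →
      (∀ r : Y.presheaf.stalk y,
        A.valuation ((Y.presheaf.stalkSpecializes hξ ≫ f.stalkMap (genericPoint X)) r) ≤ 1) →
      (∀ r ∈ maximalIdeal (Y.presheaf.stalk y),
        A.valuation ((Y.presheaf.stalkSpecializes hξ ≫ f.stalkMap (genericPoint X)) r) < 1) →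
      ∃ x : X, f x = y ∧
        ∀ r : X.presheaf.stalk x,
          A.valuation (X.presheaf.stalkSpecializes (genericPoint_specializes x) r) ≤ 1) :
    CentreAt f y := by
  intro V hV hy h R hR hC hn
  letI := TopCat.Presheaf.algebra_section_stalk Y.presheaf (⟨y, hy⟩ : V)
  have := hV.isLocalization_stalk ⟨y, hy⟩
  let p := (hV.primeIdealOf ⟨y, hy⟩).asIdeal
  let χ : Γ(Y, V) →+* R := (toFF f V h).codRestrict R.toSubring hC
  have hχ : ∀ c, χ c ∈ maximalIdeal R ↔ c ∈ p := fun c =>
    ValuationSubring.coe_mem_nonunits_iff.symm.trans (hn c)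
  have hu : ∀ s : p.primeCompl, IsUnit (χ s) := fun s =>
    not_not.mp fun h' => s.2 ((hχ _).mp h')
  let ψ : Y.presheaf.stalk y →+* R := IsLocalization.lift hu
  have hψ : R.subtype.comp ψ =
      (Y.presheaf.stalkSpecializes hξ ≫ f.stalkMap (genericPoint X)).hom := by
    refine IsLocalization.ringHom_ext p.primeCompl (RingHom.ext fun c => ?_)
    refine (congrArg Subtype.val (IsLocalization.lift_eq hu c)).trans ?_
    show (Y.presheaf.germ V _ h ≫ f.stalkMap (genericPoint X)) c =
      (Y.presheaf.germ V y hy ≫ Y.presheaf.stalkSpecializes hξ ≫ f.stalkMap (genericPoint X)) c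
    rw [TopCat.Presheaf.germ_stalkSpecializes_assoc]
  have hψ' : ∀ r, (ψ r : X.functionField) =
      (Y.presheaf.stalkSpecializes hξ ≫ f.stalkMap (genericPoint X)) r := fun r =>
    congrFun (congrArg DFunLike.coe hψ) r
  obtain ⟨x, hxy, hx⟩ := hf R hR
    (fun r => hψ' r ▸ (R.valuation_le_one (ψ r))) (fun r hr => by
      rw [← hψ', ← ValuationSubring.mem_nonunits_iff, ValuationSubring.coe_mem_nonunits_iff]
      obtain ⟨c, s, rfl⟩ := IsLocalization.exists_mk'_eq p.primeCompl r
      rw [IsLocalization.AtPrime.mk'_mem_maximal_iff _ p] at hr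
      rw [IsLocalization.lift_mk']
      exact Ideal.mul_mem_right _ _ ((hχ c).mpr hr))
  exact ⟨x, hxy ▸ hy, fun a => (R.valuation_le_one_iff _).mp (hx a)⟩

/-- Properness over a neighbourhood gives centres. -/
theorem exists_centre_of_isProper_restrict [IsIntegral X] (f : X ⟶ Y) (U : Y.Opens)
    [IsProper (f ∣_ U)] {y : Y} (hyU : y ∈ U) (hξ : f (genericPoint X) ⤳ y)
    (A : ValuationSubring X.functionField)
    (h1 : ∀ r : Y.presheaf.stalk y,
        A.valuation ((Y.presheaf.stalkSpecializes hξ ≫ f.stalkMap (genericPoint X)) r) ≤ 1)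
    (h2 : ∀ r ∈ maximalIdeal (Y.presheaf.stalk y),
        A.valuation ((Y.presheaf.stalkSpecializes hξ ≫ f.stalkMap (genericPoint X)) r) < 1) :
    ∃ x : X, f x = y ∧
      (∀ r : X.presheaf.stalk x,
        A.valuation (X.presheaf.stalkSpecializes (genericPoint_specializes x) r) ≤ 1) ∧
      ∀ r ∈ maximalIdeal (X.presheaf.stalk x),
        A.valuation (X.presheaf.stalkSpecializes (genericPoint_specializes x) r) < 1 := by
  let φ : Y.presheaf.stalk y →+* A :=
    (Y.presheaf.stalkSpecializes hξ ≫ f.stalkMap (genericPoint X)).hom.codRestrict A.toSubring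
      fun r => (A.valuation_le_one_iff _).mp (h1 r)
  have : IsLocalHom φ := ⟨fun r hr => by
    by_contra hu
    exact (ValuationSubring.coe_mem_nonunits_iff.mp (A.mem_nonunits_iff.mpr (h2 r hu))) hr⟩
  let g := Spec.map (CommRingCat.ofHom φ) ≫ Y.fromSpecStalk y
  have hg : g (closedPoint A) = y := by
    simp only [g, Scheme.Hom.comp_apply]
    exact (congrArg _ (comap_closedPoint (S := A) φ)).trans Y.fromSpecStalk_closedPoint
  have hgen : X.fromSpecStalk (genericPoint X) ≫ f = incl A ≫ g := by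
    rw [← Scheme.SpecMap_stalkMap_fromSpecStalk, ← Scheme.SpecMap_stalkSpecializes_fromSpecStalk hξ]
    simp only [incl, g, ← Spec.map_comp_assoc]
    rfl
  have hgU : Set.range g ⊆ U := range_subset_of_closedPoint g (hg ▸ hyU)
  have hsU : Set.range (X.fromSpecStalk (genericPoint X)) ⊆ (f ⁻¹ᵁ U : X.Opens) := by
    rintro _ ⟨s, rfl⟩
    show f (X.fromSpecStalk _ s) ∈ U
    rw [← Scheme.Hom.comp_apply, hgen, Scheme.Hom.comp_apply]
    exact hgU ⟨_, rfl⟩
  let σ' := IsOpenImmersion.lift (f ⁻¹ᵁ U).ι (X.fromSpecStalk (genericPoint X))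
    (by rw [Scheme.Opens.range_ι]; exact hsU)
  let g' := IsOpenImmersion.lift U.ι g (by rw [Scheme.Opens.range_ι]; exact hgU)
  have hE : ValuativeCriterion.Existence (f ∣_ U) :=
    ((UniversallyClosed.eq_valuativeCriterion.le _ _ _) inferInstance).1
  obtain ⟨l, hl₁, hl₂⟩ := (hE (mkSq (f ∣_ U) A X.functionField σ' g' (by
    rw [← cancel_mono U.ι, Category.assoc, Category.assoc, morphismRestrict_ι,
      IsOpenImmersion.lift_fac, IsOpenImmersion.lift_fac_assoc]
    exact hgen))).exists_lift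
  let m : Spec (CommRingCat.of A) ⟶ X := l ≫ (f ⁻¹ᵁ U).ι
  have hm : incl A ≫ m = X.fromSpecStalk (genericPoint X) :=
    ((Category.assoc _ _ _).symm.trans (congrArg (· ≫ (f ⁻¹ᵁ U).ι) hl₁)).trans
      (IsOpenImmersion.lift_fac _ _ _)
  have hmf : m ≫ f = g := by
    rw [Category.assoc, ← morphismRestrict_ι]
    exact ((Category.assoc _ _ _).symm.trans (congrArg (· ≫ U.ι) hl₂)).trans
      (IsOpenImmersion.lift_fac _ _ _)
  have hval := stalk_of_morphism A m hm
  refine ⟨m (closedPoint A), by rw [← Scheme.Hom.comp_apply, hmf, hg], fun r => ?_, fun r hr => ?_⟩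
  · show A.valuation (algebraMap _ X.functionField r) ≤ 1
    rw [hval]; exact A.valuation_le_one _
  · show A.valuation (algebraMap _ X.functionField r) < 1
    rw [hval, ← ValuationSubring.mem_nonunits_iff, ValuationSubring.coe_mem_nonunits_iff]
    exact fun hu => hr ((isUnit_map_iff (Scheme.stalkClosedPointTo m).hom r).mp hu)

end Groth.Agent.DVRCrit
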