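import Groth.Agent.DVRCrit.Field
import Groth.Agent.AffTest.Basic
import Mathlib

/-!
# Valuative criteria with discrete valuation rings over a locally Noetherian base
-/

open CategoryTheory CategoryTheory.Limits AlgebraicGeometry IsLocalRing

universe u

set_option backward.isDefEq.respectTransparency false
set_option backward.defeqAttrib.useBackward true

namespace Groth.Agent.DVRCrit

variable {X Y : Scheme.{u}}

theorem fg_residueField (p : X ⟶ Y) [LocallyOfFiniteType p] (x : X) :
    letI := (p.residueFieldMap x).hom.toAlgebra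
    (⊤ : IntermediateField (Y.residueField (p x)) (X.residueField x)).FG := by
  letI := (p.residueFieldMap x).hom.toAlgebra
  have h : (p.residueFieldMap x).hom.EssFiniteType :=
    RingHom.EssFiniteType.residueFieldMap (LocallyOfFiniteType.stalkMap p x)
  exact IntermediateField.fg_top_iff.mpr h

/-- A nontrivial specialization of the image of `x` is realized by a discrete valuation ring of
`κ(x)`. -/
theorem exists_dvr_residueField [IsLocallyNoetherian Y] (p : X ⟶ Y) [LocallyOfFiniteType p]
    (x : X) (y' : Y) (hsp : p x ⤳ y') (hne : y' ≠ p x) :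
    ∃ (A : ValuationSubring (X.residueField x)) (h : Spec (CommRingCat.of A) ⟶ Y),
      IsDiscreteValuationRing A ∧ h (closedPoint A) = y' ∧
      Spec.map (CommRingCat.ofHom A.subtype) ≫ h = X.fromSpecResidueField x ≫ p := by
  let ψ : Y.presheaf.stalk y' →+* Y.residueField (p x) :=
    (Y.presheaf.stalkSpecializes hsp ≫ Y.residue (p x)).hom
  let P := RingHom.ker ψ
  have : P.IsPrime := RingHom.ker_isPrime ψ
  let A₀ := Y.presheaf.stalk y' ⧸ P
  letI : Algebra A₀ (Y.residueField (p x)) := (RingHom.kerLift ψ).toAlgebra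
  letI := (p.residueFieldMap x).hom.toAlgebra
  letI : Algebra A₀ (X.residueField x) :=
    ((algebraMap (Y.residueField (p x)) (X.residueField x)).comp (RingHom.kerLift ψ)).toAlgebra
  have : IsScalarTower A₀ (Y.residueField (p x)) (X.residueField x) :=
    IsScalarTower.of_algebraMap_eq fun _ => rfl
  have hinj : Function.Injective (algebraMap A₀ (Y.residueField (p x))) := RingHom.kerLift_injective ψ
  have : IsLocalRing A₀ := .of_surjective' (Ideal.Quotient.mk P) Ideal.Quotient.mk_surjective
  obtain ⟨_, ⟨U, hU, rfl⟩, hy'U, -⟩ :=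
    Y.isBasis_affineOpens.exists_subset_of_mem_open (Set.mem_univ y') isOpen_univ
  have hyU : p x ∈ U := hsp.mem_open U.2 hy'U
  have hψ : ∀ a : Γ(Y, U), ψ (Y.presheaf.germ U y' hy'U a) =
      Y.residue (p x) (Y.presheaf.germ U (p x) hyU a) := fun a => by
    show (Y.presheaf.germ U y' hy'U ≫ Y.presheaf.stalkSpecializes hsp ≫ Y.residue (p x)) a = _
    rw [TopCat.Presheaf.germ_stalkSpecializes_assoc]
    rfl
  have : FaithfulSMul A₀ (Y.residueField (p x)) := (faithfulSMul_iff_algebraMap_injective _ _).mpr hinj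
  have : IsFractionRing A₀ (Y.residueField (p x)) := by
    refine IsFractionRing.of_field A₀ _ fun z => ?_
    obtain ⟨t, rfl⟩ := Y.residue_surjective (p x) z
    letI := TopCat.Presheaf.algebra_section_stalk Y.presheaf (⟨p x, hyU⟩ : U)
    have := hU.isLocalization_stalk ⟨p x, hyU⟩
    obtain ⟨a, s, hs⟩ := IsLocalization.exists_mk'_eq (hU.primeIdealOf ⟨p x, hyU⟩).asIdeal.primeCompl t
    refine ⟨Ideal.Quotient.mk P (Y.presheaf.germ U y' hy'U a),
      Ideal.Quotient.mk P (Y.presheaf.germ U y' hy'U s), ?_⟩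
    have e : ∀ b : Γ(Y, U), algebraMap A₀ (Y.residueField (p x)) (Ideal.Quotient.mk P (Y.presheaf.germ U y' hy'U b)) =
        Y.residue (p x) (algebraMap Γ(Y, U) (Y.presheaf.stalk (p x)) b) := fun b => hψ b
    rw [e, e, eq_div_iff, ← map_mul, ← hs, IsLocalization.mk'_spec]
    exact (((IsLocalization.map_units _ s).map (Y.residue (p x)).hom)).ne_zero
  have hA₀ : ¬ IsField A₀ := by
    intro hF
    have hP : maximalIdeal (Y.presheaf.stalk y') ≤ P :=
      ((Ideal.Quotient.maximal_of_isField P hF).eq_of_le (maximalIdeal.isMaximal _).ne_top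
        (le_maximalIdeal (Ideal.IsPrime.ne_top ‹_›))).ge
    have h2 : y' ⤳ p x := by
      refine specializes_iff_forall_open.mpr fun V hV hyV => ?_
      obtain ⟨f, hfV, hyf⟩ := hU.exists_basicOpen_le (V := ⟨V, hV⟩) ⟨p x, hyV⟩ hyU
      refine hfV ?_
      rw [Scheme.mem_basicOpen _ f y' hy'U]
      by_contra hf
      have h0 : ψ (Y.presheaf.germ U y' hy'U f) = 0 := hP hf
      rw [hψ] at h0
      rw [Scheme.mem_basicOpen _ f (p x) hyU] at hyf
      exact (hyf.map (Y.residue (p x)).hom).ne_zero h0
    exact hne (h2.antisymm hsp).eq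
  obtain ⟨A, hA, h1, h2⟩ := exists_dvr_dominating_fg (L := X.residueField x) A₀ hA₀
    (Y.residueField (p x)) (fg_residueField p x)
  let φ : Y.presheaf.stalk y' →+* A :=
    (((p.residueFieldMap x).hom.comp ψ)).codRestrict A.toSubring fun r => h1 (Ideal.Quotient.mk P r)
  have : IsLocalHom φ := by
    refine ((local_hom_TFAE φ).out 2 0).mp ?_
    rw [Ideal.map_le_iff_le_comap]
    intro r hr
    refine ValuationSubring.coe_mem_nonunits_iff.mp (h2 (Ideal.Quotient.mk P r) ?_)
    rw [mem_maximalIdeal, mem_nonunits_iff]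
    intro hu
    haveI := IsLocalHom.of_surjective (Ideal.Quotient.mk P) Ideal.Quotient.mk_surjective
    exact hr ((isUnit_map_iff (Ideal.Quotient.mk P) r).mp hu)
  refine ⟨A, Spec.map (CommRingCat.ofHom φ) ≫ Y.fromSpecStalk y', hA, ?_, ?_⟩
  · rw [Scheme.Hom.comp_apply]
    have : Spec.map (CommRingCat.ofHom φ) (closedPoint A) = closedPoint (Y.presheaf.stalk y') :=
      comap_closedPoint φ
    exact (congrArg _ this).trans Y.fromSpecStalk_closedPoint
  · rw [← p.SpecMap_residueFieldMap_fromSpecResidueField, Scheme.fromSpecResidueField,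
      ← Scheme.SpecMap_stalkSpecializes_fromSpecStalk hsp]
    simp_rw [← Spec.map_comp_assoc]
    rfl

/-- A square over `p` with a discrete valuation ring, through a nontrivial specialization. -/
theorem exists_dvr_square [IsLocallyNoetherian Y] (p : X ⟶ Y) [LocallyOfFiniteType p]
    (x : X) (y' : Y) (hsp : p x ⤳ y') (hne : y' ≠ p x) :
    ∃ (A : Type u) (_ : CommRing A) (_ : IsDomain A) (_ : IsDiscreteValuationRing A)
      (σ : Spec (CommRingCat.of (FractionRing A)) ⟶ X) (h : Spec (CommRingCat.of A) ⟶ Y),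
      h (closedPoint A) = y' ∧
      σ ≫ p = Spec.map (CommRingCat.ofHom (algebraMap A (FractionRing A))) ≫ h ∧
      ∀ s, σ s = x := by
  obtain ⟨A, h, hA, hh, w⟩ := exists_dvr_residueField p x y' hsp hne
  let e := (FractionRing.algEquiv A (X.residueField x)).symm
  refine ⟨A, inferInstance, inferInstance, hA,
    Spec.map (CommRingCat.ofHom e.toRingEquiv.toRingHom) ≫ X.fromSpecResidueField x, h, hh, ?_, ?_⟩
  · rw [Category.assoc, ← w, ← Spec.map_comp_assoc]
    congr 2
    ext a
    exact e.commutes a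
  · intro s
    rw [Scheme.Hom.comp_apply]
    exact Scheme.fromSpecResidueField_apply _ _

/-- Existence of lifts for squares with discrete valuation rings. -/
def DVRExistence (f : X ⟶ Y) : Prop :=
  ∀ (A : Type u) [CommRing A] [IsDomain A] [IsDiscreteValuationRing A]
    (x : Spec (CommRingCat.of (FractionRing A)) ⟶ X) (y : Spec (CommRingCat.of A) ⟶ Y),
    x ≫ f = Spec.map (CommRingCat.ofHom (algebraMap A (FractionRing A))) ≫ y →
      ∃ l : Spec (CommRingCat.of A) ⟶ X, l ≫ f = y ∧
        Spec.map (CommRingCat.ofHom (algebraMap A (FractionRing A))) ≫ l = x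

theorem DVRExistence.baseChange {f : X ⟶ Y} (hf : DVRExistence f) {Y' : Scheme.{u}} (g : Y' ⟶ Y) :
    DVRExistence (pullback.snd f g) := by
  intro A _ _ _ x y h
  obtain ⟨l, hl, hl'⟩ := hf A (x ≫ pullback.fst f g) (y ≫ g)
    (by rw [Category.assoc, pullback.condition, reassoc_of% h])
  refine ⟨pullback.lift l y hl, pullback.lift_snd _ _ _, ?_⟩
  apply pullback.hom_ext
  · rw [Category.assoc, pullback.lift_fst, hl']
  · rw [Category.assoc, pullback.lift_snd, h]

theorem DVRExistence.specializingMap [IsLocallyNoetherian Y] {f : X ⟶ Y} [LocallyOfFiniteType f]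
    (hf : DVRExistence f) : SpecializingMap f := by
  intro x y' hsp
  rcases eq_or_ne y' (f x) with rfl | hne
  · exact ⟨x, specializes_rfl, rfl⟩
  obtain ⟨A, _, _, _, σ, h, hh, w, hσ⟩ := exists_dvr_square f x y' hsp hne
  obtain ⟨l, hl, hl'⟩ := hf A σ h w
  refine ⟨l (closedPoint A), ?_, by rw [← Scheme.Hom.comp_apply, hl, hh]⟩
  show x ⤳ l (closedPoint A)
  rw [← hσ (closedPoint (FractionRing A)), ← hl', Scheme.Hom.comp_apply]
  exact (specializes_closedPoint _).map l.continuous

theorem DVRExistence.universallyClosed [IsLocallyNoetherian Y] {f : X ⟶ Y} [LocallyOfFiniteType f]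
    [QuasiCompact f] (hf : DVRExistence f) : UniversallyClosed f := by
  refine (AffTest.universallyClosed_iff_snd f).mpr fun n => ?_
  let g := 𝔸(ULift.{u} (Fin n); Y) ↘ Y
  have : IsLocallyNoetherian 𝔸(ULift.{u} (Fin n); Y) := LocallyOfFiniteType.isLocallyNoetherian g
  exact (isClosedMap_iff_specializingMap (pullback.snd f g)).mpr (hf.baseChange g).specializingMap

theorem isSeparated_of_dvr [IsLocallyNoetherian Y] (f : X ⟶ Y) [LocallyOfFiniteType f]
    (hf : ∀ (A : Type u) [CommRing A] [IsDomain A] [IsDiscreteValuationRing A]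
      (g₁ g₂ : Spec (CommRingCat.of A) ⟶ X), g₁ ≫ f = g₂ ≫ f →
      Spec.map (CommRingCat.ofHom (algebraMap A (FractionRing A))) ≫ g₁ =
        Spec.map (CommRingCat.ofHom (algebraMap A (FractionRing A))) ≫ g₂ → g₁ = g₂) :
    IsSeparated f := by
  have hd : DVRExistence (pullback.diagonal f) := by
    intro A _ _ _ x y h
    have e : y ≫ pullback.fst f f = y ≫ pullback.snd f f := hf A _ _
      (by simp only [Category.assoc, pullback.condition])
      (by rw [← reassoc_of% h, ← reassoc_of% h, pullback.diagonal_fst, pullback.diagonal_snd])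
    refine ⟨y ≫ pullback.fst f f, ?_, ?_⟩
    · apply pullback.hom_ext
      · simp
      · simp [e]
    · rw [← reassoc_of% h, pullback.diagonal_fst, Category.comp_id]
  have : IsLocallyNoetherian X := LocallyOfFiniteType.isLocallyNoetherian f
  have : IsLocallyNoetherian (pullback f f) :=
    LocallyOfFiniteType.isLocallyNoetherian (pullback.fst f f ≫ f)
  constructor
  refine IsClosedImmersion.of_isPreimmersion _ ?_
  exact ((isClosedMap_iff_specializingMap (pullback.diagonal f)).mpr hd.specializingMap).isClosed_range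

theorem ext_of_isSeparated (f : X ⟶ Y) [IsSeparated f] {A : Type u} [CommRing A] [IsDomain A]
    {g₁ g₂ : Spec (CommRingCat.of A) ⟶ X} (h : g₁ ≫ f = g₂ ≫ f)
    (h' : Spec.map (CommRingCat.ofHom (algebraMap A (FractionRing A))) ≫ g₁ =
      Spec.map (CommRingCat.ofHom (algebraMap A (FractionRing A))) ≫ g₂) : g₁ = g₂ := by
  have : IsDominant (Spec.map (CommRingCat.ofHom (algebraMap A (FractionRing A)))) := by
    rw [isDominant_iff]
    exact PrimeSpectrum.denseRange_comap_iff_ker_le_nilRadical _ |>.mpr (by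
      exact ((RingHom.injective_iff_ker_eq_bot _).mp (IsFractionRing.injective A (FractionRing A))).le.trans bot_le)
  exact ext_of_isDominant_of_isSeparated f h _ h'

theorem existsUnique_lift (f : X ⟶ Y) [IsProper f] (A : Type u) [CommRing A] [IsDomain A]
    [IsDiscreteValuationRing A]
    (x : Spec (CommRingCat.of (FractionRing A)) ⟶ X) (y : Spec (CommRingCat.of A) ⟶ Y)
    (h : x ≫ f = Spec.map (CommRingCat.ofHom (algebraMap A (FractionRing A))) ≫ y) :
    ∃! l : Spec (CommRingCat.of A) ⟶ X, l ≫ f = y ∧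
      Spec.map (CommRingCat.ofHom (algebraMap A (FractionRing A))) ≫ l = x := by
  have hE : ValuativeCriterion.Existence f :=
    ((UniversallyClosed.eq_valuativeCriterion.le _ _ f) (inferInstance : UniversallyClosed f)).1
  obtain ⟨l, hl₁, hl₂⟩ :=
    (hE { R := A, K := FractionRing A, i₁ := x, i₂ := y, commSq := ⟨h⟩ }).exists_lift
  exact ⟨l, ⟨hl₂, hl₁⟩, fun l' hl' => ext_of_isSeparated f (hl'.1.trans hl₂.symm) (hl'.2.trans hl₁.symm)⟩

theorem isProper_of_dvr [IsLocallyNoetherian Y] (f : X ⟶ Y) [LocallyOfFiniteType f] [QuasiCompact f]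
    (hf : ∀ (A : Type u) [CommRing A] [IsDomain A] [IsDiscreteValuationRing A]
      (x : Spec (CommRingCat.of (FractionRing A)) ⟶ X) (y : Spec (CommRingCat.of A) ⟶ Y),
      x ≫ f = Spec.map (CommRingCat.ofHom (algebraMap A (FractionRing A))) ≫ y →
        ∃! l : Spec (CommRingCat.of A) ⟶ X, l ≫ f = y ∧
          Spec.map (CommRingCat.ofHom (algebraMap A (FractionRing A))) ≫ l = x) :
    IsProper f := by
  have : IsSeparated f := isSeparated_of_dvr f fun A _ _ _ g₁ g₂ h h' =>
    (hf A _ (g₁ ≫ f) (by rw [Category.assoc])).unique ⟨rfl, rfl⟩ ⟨h.symm, h'.symm⟩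
  have : UniversallyClosed f :=
    DVRExistence.universallyClosed fun A _ _ _ x y h => (hf A x y h).exists
  exact { }

end Groth.Agent.DVRCrit
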