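import Groth.Agent.DomDVR.Dominate
import Mathlib.RingTheory.AlgebraicIndependent.TranscendenceBasis
import Mathlib.RingTheory.Algebraic.Integral
import Mathlib.RingTheory.Polynomial.Basic
import Mathlib.FieldTheory.IntermediateField.Adjoin.Basic

/-!
# DVRs in a finitely generated extension dominating a Noetherian local domain
-/

open IsLocalRing

universe u

set_option backward.isDefEq.respectTransparency false
set_option backward.defeqAttrib.useBackward true

namespace Groth.Agent.DVRCrit

variable {L : Type u} [Field L]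

/-- If a subalgebra `B` of `L` generates `L` as a field, then `L` is its fraction field. -/
theorem isFractionRing_subalgebra {A : Type u} [CommRing A] [Algebra A L] (B : Subalgebra A L)
    (h : Subfield.closure (B : Set L) = ⊤) : IsFractionRing B L := by
  refine IsFractionRing.of_field B L fun x => ?_
  obtain ⟨y, hy, z, hz, hyz⟩ := Subfield.mem_closure_iff.mp (h.ge (Subfield.mem_top x))
  have e : Subring.closure (B : Set L) ≤ B.toSubring := Subring.closure_le.mpr subset_rfl
  exact ⟨⟨y, e hy⟩, ⟨z, e hz⟩, hyz.symm⟩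

/-- Fractions of `A` and a generating set generate. -/
theorem closure_eq_top {A K : Type u} [CommRing A] [Field K] [Algebra A K] [IsFractionRing A K]
    [Algebra K L] [Algebra A L] [IsScalarTower A K L] {s : Set L}
    (hs : IntermediateField.adjoin K s = ⊤) (B : Set L) (hA : Set.range (algebraMap A L) ⊆ B)
    (hsB : ∀ x ∈ s, x ∈ Subfield.closure B) : Subfield.closure B = ⊤ := by
  have hK : ∀ k : K, algebraMap K L k ∈ Subfield.closure B := fun k => by
    obtain ⟨a, b, -, rfl⟩ := IsFractionRing.div_surjective (A := A) k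
    rw [map_div₀, ← IsScalarTower.algebraMap_apply, ← IsScalarTower.algebraMap_apply]
    exact div_mem (Subfield.subset_closure (hA ⟨a, rfl⟩)) (Subfield.subset_closure (hA ⟨b, rfl⟩))
  let F : IntermediateField K L :=
    { Subfield.closure B with
      algebraMap_mem' := hK }
  have : IntermediateField.adjoin K s ≤ F := IntermediateField.adjoin_le_iff.mpr hsB
  rw [hs] at this
  exact top_le_iff.mp fun x _ => this (IntermediateField.mem_top (x := x))

/-- A nonzero prime of a Noetherian domain is dominated by a discrete valuation ring of the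
fraction field. -/
theorem exists_dvr_of_prime {B : Type u} [CommRing B] [IsDomain B] [IsNoetherianRing B]
    [Algebra B L] [IsFractionRing B L] (Q : Ideal B) [Q.IsPrime] (hQ : Q ≠ ⊥) :
    ∃ V : ValuationSubring L, IsDiscreteValuationRing V ∧ (∀ b, algebraMap B L b ∈ V) ∧
      ∀ b ∈ Q, algebraMap B L b ∈ V.nonunits := by
  let R := Localization.AtPrime Q
  haveI : IsNoetherianRing R := IsLocalization.isNoetherianRing Q.primeCompl R inferInstance
  have hu : ∀ y : Q.primeCompl, IsUnit (algebraMap B L y) := fun y =>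
    isUnit_iff_ne_zero.mpr fun h => y.2 (by
      rw [(IsFractionRing.injective B L) (h.trans (map_zero _).symm)]; exact Q.zero_mem)
  letI : Algebra R L := (IsLocalization.lift hu).toAlgebra
  haveI : IsScalarTower B R L :=
    IsScalarTower.of_algebraMap_eq fun b => (IsLocalization.lift_eq hu b).symm
  haveI : IsFractionRing R L :=
    IsFractionRing.isFractionRing_of_isDomain_of_isLocalization Q.primeCompl R L
  have hR : ¬ IsField R := by
    intro h
    obtain ⟨b, hb, hb0⟩ := Submodule.exists_mem_ne_zero_of_ne_bot hQ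
    have h1 := (IsLocalization.AtPrime.to_map_mem_maximal_iff R Q b).mpr hb
    rw [IsLocalRing.isField_iff_maximalIdeal_eq.mp h, Submodule.mem_bot] at h1
    exact hb0 (IsLocalization.injective R Q.primeCompl_le_nonZeroDivisors (h1.trans (map_zero _).symm))
  obtain ⟨V, hV, h1, h2⟩ := DomDVR.exists_dvr_dominating hR L
  exact ⟨V, hV, fun b => IsScalarTower.algebraMap_apply B R L b ▸ h1 _,
    fun b hb => IsScalarTower.algebraMap_apply B R L b ▸
      h2 _ ((IsLocalization.AtPrime.to_map_mem_maximal_iff R Q b).mpr hb)⟩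

/-- A Noetherian local domain, not a field, is dominated by a discrete valuation ring in every
finitely generated extension of its fraction field. -/
theorem exists_dvr_dominating_fg (A : Type u) [CommRing A] [IsDomain A] [IsNoetherianRing A]
    [IsLocalRing A] (hA : ¬ IsField A) (K : Type u) [Field K] [Algebra A K] [IsFractionRing A K]
    [Algebra K L] [Algebra A L] [IsScalarTower A K L]
    (hfg : (⊤ : IntermediateField K L).FG) :
    ∃ V : ValuationSubring L, IsDiscreteValuationRing V ∧ (∀ a, algebraMap A L a ∈ V) ∧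
      ∀ a ∈ maximalIdeal A, algebraMap A L a ∈ V.nonunits := by
  classical
  obtain ⟨s, hs⟩ := hfg
  have hinjA : Function.Injective (algebraMap A L) := by
    rw [IsScalarTower.algebraMap_eq A K L]
    exact (algebraMap K L).injective.comp (IsFractionRing.injective A K)
  have : FaithfulSMul A L := (faithfulSMul_iff_algebraMap_injective A L).mpr hinjA
  -- a transcendence basis inside the generators
  have : IsFractionRing (Algebra.adjoin A (s : Set L)) L := isFractionRing_subalgebra _
    (closure_eq_top (A := A) hs _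
      (by rintro _ ⟨a, rfl⟩; exact Subalgebra.algebraMap_mem _ a)
      fun x hx => Subfield.subset_closure (Algebra.subset_adjoin hx))
  have : Algebra.IsAlgebraic (Algebra.adjoin A (s : Set L)) L :=
    IsLocalization.isAlgebraic L (nonZeroDivisors (Algebra.adjoin A (s : Set L)))
  obtain ⟨t, hts, ht⟩ := exists_isTranscendenceBasis_subset (R := A) (s : Set L)
  have : Finite t := (s.finite_toSet.subset hts).to_subtype
  -- the polynomial ring on it, localized over the maximal ideal
  let R₀ := MvPolynomial t A
  let φ : R₀ →ₐ[A] L := MvPolynomial.aeval Subtype.val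
  have hφ : Function.Injective φ := ht.1
  let π : R₀ →+* MvPolynomial t (ResidueField A) := MvPolynomial.map (residue A)
  let P : Ideal R₀ := RingHom.ker π
  have : P.IsPrime := RingHom.ker_isPrime π
  have : IsNoetherianRing R₀ := MvPolynomial.isNoetherianRing
  have hunit : ∀ y : P.primeCompl, IsUnit (φ y) := fun y => isUnit_iff_ne_zero.mpr fun h =>
    y.2 (by rw [hφ (h.trans (map_zero φ).symm)]; exact P.zero_mem)
  let R₁ := Localization.AtPrime P
  let ψ : R₁ →+* L := IsLocalization.lift hunit
  have hψ : Function.Injective ψ := by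
    rw [IsLocalization.lift_injective_iff]
    exact fun x y => ⟨fun h => congrArg φ (IsLocalization.injective R₁ P.primeCompl_le_nonZeroDivisors h),
      fun h => congrArg _ (hφ h)⟩
  have : IsNoetherianRing R₁ := IsLocalization.isNoetherianRing P.primeCompl R₁ inferInstance
  letI := ψ.toAlgebra
  have : IsDomain R₁ := hψ.isDomain ψ
  have : FaithfulSMul R₁ L := (faithfulSMul_iff_algebraMap_injective R₁ L).mpr hψ
  have hψ' : ∀ p, algebraMap R₁ L (algebraMap R₀ R₁ p) = φ p := fun p => IsLocalization.lift_eq hunit p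
  have hA' : ∀ a, algebraMap R₁ L (algebraMap R₀ R₁ (MvPolynomial.C a)) = algebraMap A L a :=
    fun a => by rw [hψ']; exact MvPolynomial.aeval_C _ a
  have hC : ∀ a ∈ maximalIdeal A, algebraMap R₀ R₁ (MvPolynomial.C a) ∈ maximalIdeal R₁ :=
    fun a ha => (IsLocalization.AtPrime.to_map_mem_maximal_iff R₁ P _).mpr (by
      show MvPolynomial.map (residue A) (MvPolynomial.C a) = 0
      refine (MvPolynomial.map_C _ a).trans ?_
      rw [(IsLocalRing.residue_eq_zero_iff a).mpr ha]
      exact map_zero _)
  -- generators integral over it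
  have halg : ∀ x : L, IsAlgebraic R₁ x := fun x => by
    obtain ⟨p, hp0, hp⟩ := ht.isAlgebraic.isAlgebraic x
    let θ : Algebra.adjoin A (Set.range (Subtype.val : t → L)) →+* R₁ :=
      (algebraMap R₀ R₁).comp ht.1.aevalEquiv.symm.toRingEquiv.toRingHom
    have hθ : Function.Injective θ :=
      (IsLocalization.injective R₁ P.primeCompl_le_nonZeroDivisors).comp
        ht.1.aevalEquiv.symm.injective
    refine ⟨p.map θ, (Polynomial.map_ne_zero_iff hθ).mpr hp0, ?_⟩
    have hc : (algebraMap R₁ L).comp θ =
        algebraMap (Algebra.adjoin A (Set.range (Subtype.val : t → L))) L := RingHom.ext fun y => by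
      obtain ⟨q, rfl⟩ := ht.1.aevalEquiv.surjective y
      change algebraMap R₁ L (algebraMap R₀ R₁ (ht.1.aevalEquiv.symm (ht.1.aevalEquiv q))) = _
      rw [AlgEquiv.symm_apply_apply, hψ']
      exact (ht.1.algebraMap_aevalEquiv q).symm
    rw [Polynomial.aeval_def, Polynomial.eval₂_map, hc]
    exact hp
  choose y hy0 hy using fun x => (halg x).exists_integral_multiple
  let B : Subalgebra R₁ L := Algebra.adjoin R₁ ((fun x => y x • x) '' (s : Set L))
  have hfin : (Subalgebra.toSubmodule B).FG := fg_adjoin_of_finite (s.finite_toSet.image _)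
    (by rintro _ ⟨x, -, rfl⟩; exact hy x)
  have : Module.Finite R₁ B := Module.Finite.iff_fg.mpr hfin
  have : Algebra.IsIntegral R₁ B := Algebra.IsIntegral.of_finite R₁ B
  have : IsNoetherianRing B := isNoetherianRing_of_fg (Subalgebra.fg_def.mpr
    ⟨_, s.finite_toSet.image _, rfl⟩)
  have hmemA : ∀ a, algebraMap A L a ∈ B := fun a => hA' a ▸ B.algebraMap_mem _
  have : IsFractionRing B L := by
    refine isFractionRing_subalgebra B (closure_eq_top (A := A) hs _
      (by rintro _ ⟨a, rfl⟩; exact hmemA a) fun x hx => ?_)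
    have h1 : algebraMap R₁ L (y x) ≠ 0 := fun h => hy0 x (hψ (h.trans (map_zero ψ).symm))
    rw [show x = (y x • x) / algebraMap R₁ L (y x) by
      rw [Algebra.smul_def, mul_div_cancel_left₀ _ h1]]
    exact div_mem (Subfield.subset_closure (Algebra.subset_adjoin ⟨x, hx, rfl⟩))
      (Subfield.subset_closure (B.algebraMap_mem _))
  have : FaithfulSMul R₁ B := (faithfulSMul_iff_algebraMap_injective R₁ B).mpr
    fun a b h => hψ (congrArg Subtype.val h)
  obtain ⟨Q, hQ, hQR⟩ := Ideal.exists_maximal_ideal_liesOver_of_isIntegral (S := B) (maximalIdeal R₁)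
  have hmQ : ∀ r ∈ maximalIdeal R₁, algebraMap R₁ B r ∈ Q := fun r hr => by
    rw [hQR.over] at hr; exact hr
  haveI := hQ.isPrime
  have hQ0 : Q ≠ ⊥ := fun h => by
    obtain ⟨a, ha, ha0⟩ := Submodule.exists_mem_ne_zero_of_ne_bot
      (IsLocalRing.isField_iff_maximalIdeal_eq.not.mp hA)
    have h1 := hmQ _ (hC a ha)
    rw [h, Submodule.mem_bot] at h1
    exact ha0 (hinjA ((hA' a).symm.trans ((congrArg Subtype.val h1).trans (map_zero _).symm)))
  obtain ⟨V, hV, h1, h2⟩ := exists_dvr_of_prime (L := L) Q hQ0
  refine ⟨V, hV, fun a => ?_, fun a ha => ?_⟩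
  · rw [← hA']
    exact h1 (algebraMap R₁ B _)
  · rw [← hA']
    exact h2 _ (hmQ _ (hC a ha))

/-- A nonzero prime of a Noetherian domain is dominated by a discrete valuation ring of any
finitely generated extension of the fraction field. -/
theorem exists_dvr_fg_of_prime {B : Type u} [CommRing B] [IsDomain B] [IsNoetherianRing B]
    (K : Type u) [Field K] [Algebra B K] [IsFractionRing B K] [Algebra K L] [Algebra B L]
    [IsScalarTower B K L] (hfg : (⊤ : IntermediateField K L).FG) (Q : Ideal B) [Q.IsPrime]
    (hQ : Q ≠ ⊥) :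
    ∃ V : ValuationSubring L, IsDiscreteValuationRing V ∧ (∀ b, algebraMap B L b ∈ V) ∧
      ∀ b ∈ Q, algebraMap B L b ∈ V.nonunits := by
  let R := Localization.AtPrime Q
  haveI : IsNoetherianRing R := IsLocalization.isNoetherianRing Q.primeCompl R inferInstance
  have hu : ∀ y : Q.primeCompl, IsUnit (algebraMap B K y) := fun y =>
    isUnit_iff_ne_zero.mpr fun h => y.2 (by
      rw [(IsFractionRing.injective B K) (h.trans (map_zero _).symm)]; exact Q.zero_mem)
  letI : Algebra R K := (IsLocalization.lift hu).toAlgebra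
  haveI : IsScalarTower B R K :=
    IsScalarTower.of_algebraMap_eq fun b => (IsLocalization.lift_eq hu b).symm
  haveI : IsFractionRing R K :=
    IsFractionRing.isFractionRing_of_isDomain_of_isLocalization Q.primeCompl R K
  letI : Algebra R L := ((algebraMap K L).comp (algebraMap R K)).toAlgebra
  haveI : IsScalarTower R K L := IsScalarTower.of_algebraMap_eq fun _ => rfl
  have e : ∀ b, algebraMap B L b = algebraMap R L (algebraMap B R b) := fun b => by
    rw [IsScalarTower.algebraMap_apply B K L, IsScalarTower.algebraMap_apply B R K]; rfl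
  have hR : ¬ IsField R := by
    intro h
    obtain ⟨b, hb, hb0⟩ := Submodule.exists_mem_ne_zero_of_ne_bot hQ
    have h1 := (IsLocalization.AtPrime.to_map_mem_maximal_iff R Q b).mpr hb
    rw [IsLocalRing.isField_iff_maximalIdeal_eq.mp h, Submodule.mem_bot] at h1
    exact hb0 (IsLocalization.injective R Q.primeCompl_le_nonZeroDivisors (h1.trans (map_zero _).symm))
  obtain ⟨V, hV, h1, h2⟩ := exists_dvr_dominating_fg R hR K hfg
  exact ⟨V, hV, fun b => e b ▸ h1 _,
    fun b hb => e b ▸ h2 _ ((IsLocalization.AtPrime.to_map_mem_maximal_iff R Q b).mpr hb)⟩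

/-- If `x` is a polynomial in `x⁻¹`, it is integral. -/
theorem isIntegral_of_mem_adjoin_inv {A : Type u} [CommRing A] [Algebra A L] {x : L} (hx0 : x ≠ 0)
    (hx : x ∈ Algebra.adjoin A {x⁻¹}) : IsIntegral A x := by
  rw [Algebra.adjoin_singleton_eq_range_aeval] at hx
  obtain ⟨p, hp⟩ := hx
  have hp' : p.eval₂ (algebraMap A L) x⁻¹ = x := hp
  let n := p.natDegree
  haveI := invertibleOfNonzero (inv_ne_zero hx0)
  have h := Polynomial.eval₂_reflect_mul_pow (algebraMap A L) x⁻¹ n p le_rfl
  rw [invOf_eq_inv, inv_inv, hp', inv_pow, ← div_eq_mul_inv, div_eq_iff (pow_ne_zero _ hx0)] at h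
  refine ⟨Polynomial.X ^ (n + 1) - p.reflect n, Polynomial.monic_X_pow_sub ?_, ?_⟩
  · refine lt_of_le_of_lt ((p.reflect n).degree_le_natDegree) ?_
    have : (p.reflect n).natDegree ≤ n := by
      rw [Polynomial.natDegree_le_iff_coeff_eq_zero]
      intro m hm
      rw [Polynomial.coeff_reflect, Polynomial.revAt_eq_self_of_lt hm]
      exact Polynomial.coeff_eq_zero_of_natDegree_lt hm
    exact_mod_cast Nat.lt_succ_of_le this
  · rw [Polynomial.eval₂_sub, Polynomial.eval₂_X_pow, h, pow_succ', sub_self]

/-- An element of a finitely generated extension which lies in every discrete valuation ring over a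
Noetherian domain is integral. -/
theorem isIntegral_iff_forall_dvr (A : Type u) [CommRing A] [IsDomain A] [IsNoetherianRing A]
    (K : Type u) [Field K] [Algebra A K] [IsFractionRing A K]
    [Algebra K L] [Algebra A L] [IsScalarTower A K L]
    (hfg : (⊤ : IntermediateField K L).FG) (x : L) :
    IsIntegral A x ↔ ∀ R : ValuationSubring L, IsDiscreteValuationRing R →
      (∀ a : A, algebraMap A L a ∈ R) → x ∈ R := by
  classical
  refine ⟨fun hx R _ hR => ?_, fun h => ?_⟩
  · let g : A →+* R := (algebraMap A L).codRestrict R.toSubring hR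
    letI := g.toAlgebra
    have : IsScalarTower A R L := IsScalarTower.of_algebraMap_eq fun _ => rfl
    obtain ⟨y, hy⟩ := IsIntegrallyClosed.isIntegral_iff.mp (hx.tower_top (A := R))
    exact hy ▸ y.2
  by_contra hx
  rcases eq_or_ne x 0 with rfl | hx0
  · exact hx isIntegral_zero
  let B : Subalgebra A L := Algebra.adjoin A {x⁻¹}
  let z : B := ⟨x⁻¹, Algebra.subset_adjoin rfl⟩
  have hz : Ideal.span {z} ≠ ⊤ := fun htop => by
    obtain ⟨b, hb⟩ := Ideal.mem_span_singleton'.mp (htop.ge (Submodule.mem_top : (1 : B) ∈ ⊤))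
    have hb' : (b : L) * x⁻¹ = 1 := congrArg Subtype.val hb
    have hbx : (b : L) = x := by rw [← mul_one (b : L), ← inv_mul_cancel₀ hx0, ← mul_assoc, hb', one_mul]
    have hxB : x ∈ B := by
      have := b.2
      rwa [hbx] at this
    exact hx (isIntegral_of_mem_adjoin_inv hx0 hxB)
  obtain ⟨Q, hQ, hQz⟩ := Ideal.exists_le_maximal _ hz
  haveI := hQ.isPrime
  have : IsNoetherianRing B := isNoetherianRing_of_fg (Subalgebra.fg_def.mpr ⟨_, Set.finite_singleton _, rfl⟩)
  -- fraction field of `B` inside `L`
  obtain ⟨s, hs⟩ := hfg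
  let B' : Subalgebra A L := Algebra.adjoin A (insert x⁻¹ (s : Set L))
  let T₀ := Localization.AtPrime Q
  let F := Subfield.closure (B : Set L)
  have hBF : ∀ b : B, (b : L) ∈ F := fun b => Subfield.subset_closure b.2
  let j : B →+* F := B.val.toRingHom.codRestrict F hBF
  letI := j.toAlgebra
  have : FaithfulSMul B F := (faithfulSMul_iff_algebraMap_injective B F).mpr fun a b hab =>
    Subtype.ext (show (a : L) = b from congrArg (fun y : F => (y : L)) hab)
  have hBfrac : IsFractionRing B F := IsFractionRing.of_field B F fun y => by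
    obtain ⟨a, ha, b, hb, hab⟩ := Subfield.mem_closure_iff.mp y.2
    have e : Subring.closure (B : Set L) ≤ B.toSubring := Subring.closure_le.mpr subset_rfl
    exact ⟨⟨a, e ha⟩, ⟨b, e hb⟩, Subtype.ext hab.symm⟩
  letI : Algebra F L := F.subtype.toAlgebra
  have hfgF : (⊤ : IntermediateField F L).FG := by
    refine ⟨s, top_le_iff.mp fun y _ => ?_⟩
    have hall := closure_eq_top (A := A) hs
      ((IntermediateField.adjoin F (s : Set L)) : Set L)
      (by rintro _ ⟨a, rfl⟩
          exact (IntermediateField.adjoin F (s : Set L)).algebraMap_mem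
            ⟨_, hBF ⟨_, B.algebraMap_mem a⟩⟩)
      fun w hw => Subfield.subset_closure (IntermediateField.subset_adjoin F _ hw)
    exact (Subfield.closure_eq (IntermediateField.adjoin F (s : Set L)).toSubfield).le
      (hall.ge (Subfield.mem_top y))
  haveI : IsScalarTower B F L := IsScalarTower.of_algebraMap_eq fun _ => rfl
  have hzQ : z ∈ Q := hQz (Ideal.mem_span_singleton_self z)
  have hQ0 : Q ≠ ⊥ := fun h => by
    rw [h, Submodule.mem_bot] at hzQ
    exact inv_ne_zero hx0 (congrArg Subtype.val hzQ)
  obtain ⟨V, hV, h1, h2⟩ := exists_dvr_fg_of_prime (L := L) F hfgF Q hQ0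
  have hxV : x ∈ V := h V hV fun a => h1 ⟨_, B.algebraMap_mem a⟩
  have hnu : x⁻¹ ∈ V.nonunits := h2 z hzQ
  rw [ValuationSubring.mem_nonunits_iff_or, inv_inv] at hnu
  exact hnu.elim (inv_ne_zero hx0) (fun h => h hxV)

end Groth.Agent.DVRCrit
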