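import Groth.Agent.DVRCrit.Centre
import Mathlib

/-!
# Properness over a neighbourhood from the valuative criterion at one point
-/

open CategoryTheory CategoryTheory.Limits AlgebraicGeometry IsLocalRing

universe u

set_option backward.isDefEq.respectTransparency false
set_option backward.defeqAttrib.useBackward true

namespace Groth.Agent.DVRCrit

variable {X Y : Scheme.{u}}

/-- `Spec K(X) ⟶ Spec R` for a valuation subring. -/
noncomputable abbrev incl {K : Type u} [Field K] (R : ValuationSubring K) :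
    Spec (CommRingCat.of K) ⟶ Spec (CommRingCat.of R) :=
  Spec.map (CommRingCat.ofHom R.subtype)

variable [IsIntegral X] (f : X ⟶ Y)

/-- The stalk at the centre maps into the valuation ring. -/
theorem stalk_of_morphism (R : ValuationSubring X.functionField) (m : Spec (CommRingCat.of R) ⟶ X)
    (hm : incl R ≫ m = X.fromSpecStalk (genericPoint X)) :
    ∀ a, algebraMap (X.presheaf.stalk (m (closedPoint R))) X.functionField a =
      Scheme.stalkClosedPointTo m a := by
  let x := m (closedPoint R)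
  have h : X.presheaf.stalkSpecializes (genericPoint_specializes x) =
      Scheme.stalkClosedPointTo m ≫ CommRingCat.ofHom R.subtype := by
    apply Spec.map_injective
    apply (cancel_mono (X.fromSpecStalk x)).mp
    rw [Scheme.SpecMap_stalkSpecializes_fromSpecStalk, Spec.map_comp, Category.assoc,
      Scheme.Spec_stalkClosedPointTo_fromSpecStalk, ← hm]
  intro a
  exact congrFun (congrArg (fun φ : X.presheaf.stalk x ⟶ X.functionField =>
    (φ : X.presheaf.stalk x → X.functionField)) h) a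

/-- The valuative criterion at the point `y`, for discrete valuation rings of the function field. -/
def CentreAt (y : Y) : Prop :=
  ∀ (V : Y.Opens) (hV : IsAffineOpen V) (hy : y ∈ V) (h : f (genericPoint X) ∈ V)
    (R : ValuationSubring X.functionField), IsDiscreteValuationRing R →
    (∀ c, toFF f V h c ∈ R) →
    (∀ c, toFF f V h c ∈ R.nonunits ↔ c ∈ (hV.primeIdealOf ⟨y, hy⟩).asIdeal) →
      ∃ x : X, f x ∈ V ∧
        ∀ a : X.presheaf.stalk x, algebraMap (X.presheaf.stalk x) X.functionField a ∈ R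

/-- The valuative criterion at `y` holds on a neighbourhood. -/
theorem exists_good_nhd [IsLocallyNoetherian Y] [LocallyOfFiniteType f] [QuasiCompact f]
    (y : Y) (hf : CentreAt f y) (hy : f (genericPoint X) ⤳ y) :
    ∃ (V' : Y.Opens) (_ : IsAffineOpen V'), y ∈ V' ∧ ∀ (hξ : f (genericPoint X) ∈ V')
      (W : ValuationSubring X.functionField), (∀ c, toFF f V' hξ c ∈ W) →
        ∃ (U : X.Opens) (_ : IsAffineOpen U) (_ : U ≤ f ⁻¹ᵁ V') (h : genericPoint X ∈ U),
          ∀ b, X.presheaf.germ U _ h b ∈ W := by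
  classical
  obtain ⟨_, ⟨V, hV, rfl⟩, hyV, -⟩ :=
    Y.isBasis_affineOpens.exists_subset_of_mem_open (Set.mem_univ y) isOpen_univ
  have hξV : f (genericPoint X) ∈ V := hy.mem_open V.2 hyV
  have : IsNoetherianRing Γ(Y, V) := IsLocallyNoetherian.component_noetherian ⟨V, hV⟩
  have hsub : ∀ z : f ⁻¹ᵁ V, ∃ U : X.Opens, IsAffineOpen U ∧ z.1 ∈ U ∧ U ≤ f ⁻¹ᵁ V := fun z => by
    obtain ⟨_, ⟨U, hU, rfl⟩, hz, hle⟩ :=
      X.isBasis_affineOpens.exists_subset_of_mem_open z.2 (f ⁻¹ᵁ V).2
    exact ⟨U, hU, hz, hle⟩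
  choose U hU hzU hle using hsub
  obtain ⟨T, hT⟩ := (f.isCompact_preimage hV.isCompact).elim_finite_subcover
    (fun z => (U z : Set X)) (fun z => (U z).2)
    (fun z hz => Set.mem_iUnion.mpr ⟨⟨z, hz⟩, hzU ⟨z, hz⟩⟩)
  let φ := toFF f V hξV
  letI := φ.toAlgebra
  -- generators
  have hgen : ∀ z : f ⁻¹ᵁ V, ∃ G : Finset Γ(X, U z), ∀ W : ValuationSubring X.functionField,
      (∀ c, φ c ∈ W) → (∀ g ∈ G, X.presheaf.germ (U z) _ (gen_mem (hzU z)) g ∈ W) →
        ∀ b, X.presheaf.germ (U z) _ (gen_mem (hzU z)) b ∈ W := fun z => by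
    have hft : (f.appLE V (U z) (hle z)).hom.FiniteType :=
      LocallyOfFiniteType.finiteType_appLE (f := f) hV (hU z) (hle z)
    letI := (f.appLE V (U z) (hle z)).hom.toAlgebra
    have : Algebra.FiniteType Γ(Y, V) Γ(X, U z) := hft
    obtain ⟨G, hG⟩ := this.out
    refine ⟨G, fun W hW hGW b => ?_⟩
    induction (hG.ge (Algebra.mem_top (x := b))) using Algebra.adjoin_induction with
    | mem g hg => exact hGW g hg
    | algebraMap c => exact (toFF_eq f hξV (hle z) (gen_mem (hzU z)) c) ▸ hW c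
    | add a b _ _ ha hb => rw [map_add]; exact W.add_mem _ _ ha hb
    | mul a b _ _ ha hb => rw [map_mul]; exact W.mul_mem _ _ ha hb
  choose G hG using hgen
  let p := (hV.primeIdealOf ⟨y, hyV⟩).asIdeal
  let val : ∀ z : f ⁻¹ᵁ V, Γ(X, U z) → X.functionField := fun z b =>
    X.presheaf.germ (U z) _ (gen_mem (hzU z)) b
  let S : (∀ z : T, G z.1) → Finset X.functionField :=
    fun k => Finset.univ.image fun z => val z.1 (k z).1
  let D : (∀ z : T, G z.1) → Subalgebra Γ(Y, V) X.functionField := fun k =>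
    Algebra.adjoin Γ(Y, V) ((fun a => a⁻¹) '' (S k : Set X.functionField))
  let I : ∀ k, Ideal (D k) := fun k =>
    Ideal.span {d | (d : X.functionField) ∈ (fun a => a⁻¹) '' (S k : Set X.functionField)}
  -- each choice is excluded by a section not vanishing at `y`
  have key : ∀ k : (∀ z : T, G z.1),
      ∃ s, s ∉ p ∧ ((∀ a ∈ S k, a ≠ 0) → algebraMap _ (D k) s ∈ I k) := by
    intro k
    by_cases h0 : ∀ a ∈ S k, a ≠ 0
    swap
    · exact ⟨1, fun h1 => (hV.primeIdealOf ⟨y, hyV⟩).2.ne_top ((Ideal.eq_top_iff_one _).mpr h1),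
        fun h => absurd h h0⟩
    by_contra hno
    have hdisj : Disjoint ((I k ⊔ p.map (algebraMap _ (D k)) : Ideal (D k)) : Set (D k))
        ((p.primeCompl.map (algebraMap Γ(Y, V) (D k))) : Set (D k)) := by
      rw [Set.disjoint_left]
      rintro _ h1 ⟨t, ht, rfl⟩
      -- `D k` is `C` plus `I k`
      have hdec : ∀ d : D k, ∃ c, d - algebraMap Γ(Y, V) (D k) c ∈ I k := by
        rintro ⟨d, hd⟩
        induction hd using Algebra.adjoin_induction with
        | mem a ha =>
          exact ⟨0, by rw [map_zero, sub_zero]; exact Ideal.subset_span ha⟩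
        | algebraMap c => exact ⟨c, by convert (I k).zero_mem using 1; exact sub_self _⟩
        | add a b ha hb h1 h2 =>
          obtain ⟨c1, h1⟩ := h1; obtain ⟨c2, h2⟩ := h2
          refine ⟨c1 + c2, ?_⟩
          convert (I k).add_mem h1 h2 using 1
          rw [map_add]
          show (⟨a, ha⟩ : D k) + ⟨b, hb⟩ - _ = _
          abel
        | mul a b ha hb h1 h2 =>
          obtain ⟨c1, h1⟩ := h1; obtain ⟨c2, h2⟩ := h2
          refine ⟨c1 * c2, ?_⟩
          convert (I k).add_mem ((I k).mul_mem_right (⟨b, hb⟩ : D k) h1)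
            ((I k).mul_mem_left (algebraMap _ (D k) c1) h2) using 1
          rw [map_mul]
          show (⟨a, ha⟩ : D k) * ⟨b, hb⟩ - _ = _
          ring
      let J : Ideal Γ(Y, V) := (I k).comap (algebraMap _ (D k))
      have hle' : p.map (algebraMap Γ(Y, V) (D k)) ≤ (p ⊔ J).map (algebraMap _ (D k)) :=
        Ideal.map_mono le_sup_left
      have htJ : t ∈ p ⊔ J := by
        have h3 : ∀ d ∈ p.map (algebraMap Γ(Y, V) (D k)), ∃ r ∈ p, d - algebraMap _ (D k) r ∈ I k := by
          intro d hd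
          refine Submodule.span_induction ?_ ?_ ?_ ?_ hd
          · rintro _ ⟨r, hr, rfl⟩; exact ⟨r, hr, by rw [sub_self]; exact (I k).zero_mem⟩
          · exact ⟨0, p.zero_mem, by rw [map_zero, sub_zero]; exact (I k).zero_mem⟩
          · rintro a b - - ⟨r, hr, h1⟩ ⟨r', hr', h2⟩
            refine ⟨r + r', p.add_mem hr hr', ?_⟩
            convert (I k).add_mem h1 h2 using 1
            rw [map_add]; abel
          · rintro e a - ⟨r, hr, h1⟩
            obtain ⟨c, hc⟩ := hdec e
            refine ⟨c * r, p.mul_mem_left c hr, ?_⟩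
            convert (I k).add_mem ((I k).mul_mem_right a hc)
              ((I k).mul_mem_left (algebraMap _ (D k) c) h1) using 1
            rw [map_mul, smul_eq_mul]; ring
        obtain ⟨i, hi, d, hd, he⟩ := Submodule.mem_sup.mp h1
        obtain ⟨r, hr, hdr⟩ := h3 d hd
        refine Submodule.mem_sup.mpr ⟨r, hr, t - r, ?_, by ring⟩
        show algebraMap _ (D k) (t - r) ∈ I k
        rw [map_sub, ← he, add_sub_assoc]
        exact (I k).add_mem hi hdr
      obtain ⟨r, hr, j, hj, rfl⟩ := Submodule.mem_sup.mp htJ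
      exact hno ⟨j, fun hjp => ht (p.add_mem hr hjp), fun _ => hj⟩
    obtain ⟨Q, hQ, hQle, hQd⟩ := Ideal.exists_le_prime_disjoint _ _ hdisj
    have hne : (S k).Nonempty := by
      obtain ⟨z, hz, -⟩ := Set.mem_iUnion₂.mp (hT hξV)
      exact ⟨_, Finset.mem_image_of_mem _ (Finset.mem_univ (⟨z, hz⟩ : T))⟩
    obtain ⟨R, hR, hRC, hRS, hRn⟩ := exists_dvr_adjoin_inv φ (toFF_essFiniteType f hV hξV) (S k)
      hne h0 Q (fun d hd => hQle (Ideal.mem_sup_left (Ideal.subset_span hd)))
    obtain ⟨x, hxV, hx⟩ := hf V hV hyV hξV R hR hRC fun c => by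
      rw [hRn]
      refine ⟨fun hc => ?_, fun hc => hQle (Ideal.mem_sup_right (Ideal.mem_map_of_mem _ hc))⟩
      by_contra hcp
      exact Set.disjoint_left.mp hQd hc ⟨c, hcp, rfl⟩
    obtain ⟨z, hz, hxz⟩ := Set.mem_iUnion₂.mp (hT hxV)
    refine hRS _ (Finset.mem_image_of_mem _ (Finset.mem_univ (⟨z, hz⟩ : T))) ?_
    have h1 := hx (X.presheaf.germ (U z) x hxz (k ⟨z, hz⟩).1)
    have h2 : algebraMap (X.presheaf.stalk x) X.functionField
        (X.presheaf.germ (U z) x hxz (k ⟨z, hz⟩).1) = val z (k ⟨z, hz⟩).1 :=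
      congrFun (congrArg (fun φ : Γ(X, U z) ⟶ X.functionField => (φ : Γ(X, U z) → X.functionField))
        (X.presheaf.germ_stalkSpecializes hxz (genericPoint_specializes x))) (k ⟨z, hz⟩).1
    exact h2 ▸ h1
  choose s hs hsI using key
  let s₀ := ∏ k, s k
  have hs₀ : s₀ ∉ p := fun h => by
    obtain ⟨k, -, hk⟩ := (hV.primeIdealOf ⟨y, hyV⟩).2.prod_mem_iff.mp h
    exact hs k hk
  refine ⟨Y.basicOpen s₀, hV.basicOpen s₀, ?_, fun hξ W hW => ?_⟩
  · have h1 : hV.fromSpec (hV.primeIdealOf ⟨y, hyV⟩) = y := hV.fromSpec_primeIdealOf ⟨y, hyV⟩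
    rw [← h1]
    show hV.primeIdealOf ⟨y, hyV⟩ ∈ hV.fromSpec ⁻¹ᵁ Y.basicOpen s₀
    rw [hV.fromSpec_preimage_basicOpen]
    exact hs₀
  have hle₀ := Y.basicOpen_le s₀
  have hres : ∀ c, toFF f (Y.basicOpen s₀) hξ (Y.presheaf.map (homOfLE hle₀).op c) = φ c := fun c => by
    refine congrFun (congrArg (fun φ : Γ(Y, V) ⟶ X.functionField => (φ : Γ(Y, V) → X.functionField))
      (show Y.presheaf.map (homOfLE hle₀).op ≫ Y.presheaf.germ _ _ hξ ≫ f.stalkMap _ =
        Y.presheaf.germ V _ hξV ≫ f.stalkMap _ from Y.presheaf.germ_res_assoc _ _ _ _)) c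
  have hWC : ∀ c, φ c ∈ W := fun c => hres c ▸ hW _
  have hgood : ∃ z : T, ∀ b, val z.1 b ∈ W := by
    by_contra hbad
    have hbad' : ∀ z : T, ∃ g : G z.1, val z.1 g.1 ∉ W := fun z => by
      by_contra hc
      exact hbad ⟨z, hG z.1 W hWC fun g hg => not_not.mp fun hgW => hc ⟨⟨g, hg⟩, hgW⟩⟩
    choose k hk using hbad'
    have hSW : ∀ a ∈ S k, a ∉ W := fun a ha => by
      obtain ⟨z, -, rfl⟩ := Finset.mem_image.mp ha; exact hk z
    have h0 : ∀ a ∈ S k, a ≠ 0 := fun a ha h => hSW a ha (h ▸ W.zero_mem)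
    have hDW : ∀ d : D k, (d : X.functionField) ∈ W := fun d => by
      let W' : Subalgebra Γ(Y, V) X.functionField := { W.toSubring with algebraMap_mem' := hWC }
      have hle : D k ≤ W' := Algebra.adjoin_le (by
        rintro _ ⟨a, ha, rfl⟩
        exact (W.mem_or_inv_mem a).resolve_left (hSW a ha))
      exact hle d.2
    let ι : D k →+* W := (D k).val.toRingHom.codRestrict W.toSubring hDW
    have hI : I k ≤ (maximalIdeal W).comap ι := Ideal.span_le.mpr (by
      rintro d ⟨a, ha, hd⟩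
      refine ValuationSubring.coe_mem_nonunits_iff.mp ?_
      show (d : X.functionField) ∈ W.nonunits
      rw [← hd, ValuationSubring.inv_mem_nonunits_iff]
      exact Or.inr (hSW a ha))
    have hu : IsUnit (Y.presheaf.map (homOfLE hle₀).op (s k)) :=
      isUnit_of_dvd_unit (map_dvd _ (Finset.dvd_prod_of_mem s (Finset.mem_univ k)))
        (Y.toRingedSpace.isUnit_res_basicOpen s₀)
    have hu' : IsUnit (ι (algebraMap _ (D k) (s k))) := by
      have h1 := hu.map ((toFF f (Y.basicOpen s₀) hξ).codRestrict W.toSubring hW)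
      have he : ι (algebraMap _ (D k) (s k)) =
          (toFF f (Y.basicOpen s₀) hξ).codRestrict W.toSubring hW
            (Y.presheaf.map (homOfLE hle₀).op (s k)) := Subtype.ext (hres (s k)).symm
      exact he ▸ h1
    exact (hI (hsI k h0)) hu'
  obtain ⟨z, hz⟩ := hgood
  have hUle : U z.1 ⊓ f ⁻¹ᵁ Y.basicOpen s₀ = X.basicOpen (f.appLE V (U z.1) (hle z.1) s₀) := by
    exact (Scheme.basicOpen_appLE f _ _ (hle z.1) s₀).symm
  have hξ' : genericPoint X ∈ X.basicOpen (f.appLE V (U z.1) (hle z.1) s₀) :=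
    hUle ▸ ⟨gen_mem (hzU z.1), hξ⟩
  refine ⟨_, (hU z.1).basicOpen _, hUle ▸ inf_le_right, hξ', fun b => ?_⟩
  letI := (X.presheaf.map (homOfLE (X.basicOpen_le (f.appLE V (U z.1) (hle z.1) s₀))).op).hom.toAlgebra
  have := (hU z.1).isLocalization_basicOpen (f.appLE V (U z.1) (hle z.1) s₀)
  obtain ⟨⟨a, ⟨_, n, rfl⟩⟩, hb⟩ := IsLocalization.surj
    (Submonoid.powers (f.appLE V (U z.1) (hle z.1) s₀)) b
  let g := X.presheaf.germ (X.basicOpen (f.appLE V (U z.1) (hle z.1) s₀)) _ hξ'
  have hg : ∀ e, g (X.presheaf.map (homOfLE (X.basicOpen_le _)).op e) = val z.1 e := fun e =>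
    X.presheaf.germ_res_apply _ _ _ _
  have hb' : g b * val z.1 ((f.appLE V (U z.1) (hle z.1) s₀) ^ n) = val z.1 a := by
    rw [← hg, ← hg, ← map_mul]; exact congrArg g hb
  have hs' : val z.1 ((f.appLE V (U z.1) (hle z.1) s₀) ^ n) = φ s₀ ^ n := by
    simp only [val, map_pow]
    rw [← toFF_eq f hξV (hle z.1)]
  obtain ⟨v, hv⟩ := (Y.toRingedSpace.isUnit_res_basicOpen s₀).map
    ((toFF f (Y.basicOpen s₀) hξ).codRestrict W.toSubring hW)
  have hv' : ((v : W) : X.functionField) = φ s₀ := by rw [hv]; exact hres s₀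
  have h5 : g b = val z.1 a * ((↑(v⁻¹ ^ n) : W) : X.functionField) := by
    rw [← hb', hs', ← hv', mul_assoc, Units.val_pow_eq_pow_val, SubmonoidClass.coe_pow, ← mul_pow]
    have : ((v : W) : X.functionField) * ((↑v⁻¹ : W) : X.functionField) = 1 :=
      congrArg Subtype.val v.mul_inv
    rw [this, one_pow, mul_one]
  exact h5 ▸ W.mul_mem _ _ (hz a) (↑(v⁻¹ ^ n) : W).2

end Groth.Agent.DVRCrit
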