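import Groth.Agent.DVRCrit.Scheme
import Mathlib

/-!
# Valuative criterion of properness with discrete valuation rings of the function field
-/

open CategoryTheory CategoryTheory.Limits AlgebraicGeometry IsLocalRing

universe u

set_option backward.isDefEq.respectTransparency false
set_option backward.defeqAttrib.useBackward true

namespace Groth.Agent.DVRCrit

/-- A prime of a Noetherian domain is the centre of a discrete valuation ring in a finitely
generated extension of the fraction field. -/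
theorem exists_dvr_fg_of_prime' {B L : Type u} [CommRing B] [IsDomain B] [IsNoetherianRing B]
    [Field L] (K : Type u) [Field K] [Algebra B K] [IsFractionRing B K] [Algebra K L] [Algebra B L]
    [IsScalarTower B K L] (hfg : (⊤ : IntermediateField K L).FG) (Q : Ideal B) [Q.IsPrime]
    (hQ : Q ≠ ⊥) :
    ∃ V : ValuationSubring L, IsDiscreteValuationRing V ∧ (∀ b, algebraMap B L b ∈ V) ∧
      ∀ b, algebraMap B L b ∈ V.nonunits ↔ b ∈ Q := by
  let R := Localization.AtPrime Q
  haveI : IsNoetherianRing R := IsLocalization.isNoetherianRing Q.primeCompl R inferInstance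
  have hu : ∀ y : Q.primeCompl, IsUnit (algebraMap B K y) := fun y =>
    isUnit_iff_ne_zero.mpr fun h => y.2 (by
      rw [(IsFractionRing.injective B K) (h.trans (map_zero _).symm)]; exact Q.zero_mem)
  letI : Algebra R K := (IsLocalization.lift hu).toAlgebra
  haveI : IsScalarTower B R K :=
    IsScalarTower.of_algebraMap_eq fun b => (IsLocalization.lift_eq hu b).symm
  haveI : IsFractionRing R K :=
    IsFractionRing.isFractionRing_of_isDomain_of_isLocalization Q.primeCompl R K
  letI : Algebra R L := ((algebraMap K L).comp (algebraMap R K)).toAlgebra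
  haveI : IsScalarTower R K L := IsScalarTower.of_algebraMap_eq fun _ => rfl
  have e : ∀ b, algebraMap B L b = algebraMap R L (algebraMap B R b) := fun b => by
    rw [IsScalarTower.algebraMap_apply B K L, IsScalarTower.algebraMap_apply B R K]; rfl
  have hR : ¬ IsField R := by
    intro h
    obtain ⟨b, hb, hb0⟩ := Submodule.exists_mem_ne_zero_of_ne_bot hQ
    have h1 := (IsLocalization.AtPrime.to_map_mem_maximal_iff R Q b).mpr hb
    rw [IsLocalRing.isField_iff_maximalIdeal_eq.mp h, Submodule.mem_bot] at h1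
    exact hb0 (IsLocalization.injective R Q.primeCompl_le_nonZeroDivisors (h1.trans (map_zero _).symm))
  obtain ⟨V, hV, h1, h2⟩ := exists_dvr_dominating_fg R hR K hfg
  refine ⟨V, hV, fun b => e b ▸ h1 _, fun b => ⟨fun hb => ?_,
    fun hb => e b ▸ h2 _ ((IsLocalization.AtPrime.to_map_mem_maximal_iff R Q b).mpr hb)⟩⟩
  by_contra hbQ
  obtain ⟨v, hv⟩ := IsLocalization.map_units R (⟨b, hbQ⟩ : Q.primeCompl)
  have h4 : algebraMap R L ↑v⁻¹ * algebraMap B L b = 1 := by
    have hv' : (v : R) = algebraMap B R b := hv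
    rw [e, ← hv', ← map_mul, Units.inv_mul, map_one]
  rw [ValuationSubring.mem_nonunits_iff_or] at hb
  rcases hb with hb | hb
  · simp [hb] at h4
  · exact hb ((eq_inv_of_mul_eq_one_left h4) ▸ h1 _)

/-- A prime containing the inverses of finitely many elements gives a discrete valuation ring
over a Noetherian ring `C` avoiding these elements. -/
theorem exists_dvr_adjoin_inv {C K : Type u} [CommRing C] [IsNoetherianRing C] [Field K]
    (φ : C →+* K) (hφ : φ.EssFiniteType) (s : Finset K) (hne : s.Nonempty) (hs : ∀ a ∈ s, a ≠ 0) :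
    letI := φ.toAlgebra
    ∀ (Q : Ideal (Algebra.adjoin C ((fun a => a⁻¹) '' (s : Set K)))) [Q.IsPrime],
      (∀ d : Algebra.adjoin C ((fun a => a⁻¹) '' (s : Set K)),
        (d : K) ∈ (fun a => a⁻¹) '' (s : Set K) → d ∈ Q) →
      ∃ R : ValuationSubring K, IsDiscreteValuationRing R ∧ (∀ c, φ c ∈ R) ∧ (∀ a ∈ s, a ∉ R) ∧
        ∀ c, φ c ∈ R.nonunits ↔ algebraMap C _ c ∈ Q := by
  classical
  letI := φ.toAlgebra
  intro Q _ hQs
  have : Algebra.EssFiniteType C K := hφ
  let D : Subalgebra C K := Algebra.adjoin C ((fun a => a⁻¹) '' (s : Set K))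
  have : IsNoetherianRing D :=
    isNoetherianRing_of_fg (Subalgebra.fg_def.mpr ⟨_, s.finite_toSet.image _, rfl⟩)
  have hinvQ : ∀ a (ha : a ∈ s),
      (⟨a⁻¹, Algebra.subset_adjoin ⟨a, ha, rfl⟩⟩ : D) ∈ Q := fun a ha => hQs _ ⟨a, ha, rfl⟩
  have hQ : Q ≠ ⊥ := fun h => by
    obtain ⟨a, ha⟩ := hne
    have h1 := hinvQ a ha
    rw [h, Submodule.mem_bot] at h1
    exact inv_ne_zero (hs a ha) (congrArg Subtype.val h1)
  let F := Subfield.closure (D : Set K)
  have hDF : ∀ d : D, (d : K) ∈ F := fun d => Subfield.subset_closure d.2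
  letI : Algebra D F := (D.val.toRingHom.codRestrict F hDF).toAlgebra
  have : FaithfulSMul D F := (faithfulSMul_iff_algebraMap_injective D F).mpr fun a b hab =>
    Subtype.ext (show (a : K) = b from congrArg (fun y : F => (y : K)) hab)
  have : IsFractionRing D F := IsFractionRing.of_field D F fun y => by
    obtain ⟨a, ha, b, hb, hab⟩ := Subfield.mem_closure_iff.mp y.2
    have e : Subring.closure (D : Set K) ≤ D.toSubring := Subring.closure_le.mpr subset_rfl
    exact ⟨⟨a, e ha⟩, ⟨b, e hb⟩, Subtype.ext hab.symm⟩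
  letI : Algebra F K := F.subtype.toAlgebra
  haveI : IsScalarTower D F K := IsScalarTower.of_algebraMap_eq fun _ => rfl
  letI : Algebra C F := (φ.codRestrict F fun c => hDF ⟨_, D.algebraMap_mem c⟩).toAlgebra
  haveI : IsScalarTower C F K := IsScalarTower.of_algebraMap_eq fun _ => rfl
  haveI : Algebra.EssFiniteType F K := Algebra.EssFiniteType.of_comp C F K
  obtain ⟨R, hR, h1, h2⟩ :=
    exists_dvr_fg_of_prime' (L := K) F (IntermediateField.fg_top F K) Q hQ
  refine ⟨R, hR, fun c => h1 ⟨_, D.algebraMap_mem c⟩, fun a ha haR => ?_,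
    fun c => h2 ⟨_, D.algebraMap_mem c⟩⟩
  have h3 : a⁻¹ ∈ R.nonunits := (h2 _).mpr (hinvQ a ha)
  rw [ValuationSubring.inv_mem_nonunits_iff] at h3
  exact h3.elim (hs a ha) (fun h => h haR)

/-- Finitely many elements outside a valuation ring over a Noetherian ring `C` are outside a
discrete valuation ring over `C`. -/
theorem exists_dvr_not_mem {C K : Type u} [CommRing C] [IsNoetherianRing C] [Field K] (φ : C →+* K)
    (hφ : φ.EssFiniteType) (W : ValuationSubring K) (hW : ∀ c, φ c ∈ W) (s : Finset K)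
    (hs : ∀ a ∈ s, a ∉ W) (hne : s.Nonempty) :
    ∃ R : ValuationSubring K, IsDiscreteValuationRing R ∧ (∀ c, φ c ∈ R) ∧ ∀ a ∈ s, a ∉ R := by
  letI := φ.toAlgebra
  let D : Subalgebra C K := Algebra.adjoin C ((fun a => a⁻¹) '' (s : Set K))
  have hDW : ∀ d : D, (d : K) ∈ W := fun d => by
    let W' : Subalgebra C K := { W.toSubring with algebraMap_mem' := hW }
    have hle : D ≤ W' := Algebra.adjoin_le (by
      rintro _ ⟨a, ha, rfl⟩
      exact (W.mem_or_inv_mem a).resolve_left (hs a ha))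
    exact hle d.2
  obtain ⟨R, hR, h1, h2, -⟩ := exists_dvr_adjoin_inv φ hφ s hne
    (fun a ha h0 => hs a ha (h0 ▸ W.zero_mem))
    ((maximalIdeal W).comap (D.val.toRingHom.codRestrict W.toSubring hDW))
    (by
      rintro d ⟨a, ha, hd⟩
      refine ValuationSubring.coe_mem_nonunits_iff.mp ?_
      show (d : K) ∈ W.nonunits
      rw [← hd, ValuationSubring.inv_mem_nonunits_iff]
      exact Or.inr (hs a ha))
  exact ⟨R, hR, h1, h2⟩

variable {X Y : Scheme.{u}}

theorem exists_factor {V : Y.Opens} (hV : IsAffineOpen V) {R : CommRingCat.{u}} (g : Spec R ⟶ Y)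
    (hg : Set.range g ⊆ V) : ∃ χ : Γ(Y, V) ⟶ R, g = Spec.map χ ≫ hV.fromSpec :=
  ⟨Spec.preimage (IsOpenImmersion.lift hV.fromSpec g (by rw [hV.range_fromSpec]; exact hg)),
    by rw [Spec.map_preimage, IsOpenImmersion.lift_fac]⟩

theorem fromSpec_inj {V : Y.Opens} (hV : IsAffineOpen V) {R : CommRingCat.{u}}
    {χ χ' : Γ(Y, V) ⟶ R} (h : Spec.map χ ≫ hV.fromSpec = Spec.map χ' ≫ hV.fromSpec) : χ = χ' :=
  Spec.map_injective ((cancel_mono hV.fromSpec).mp h)

theorem range_subset_of_closedPoint {R : Type u} [CommRing R] [IsLocalRing R]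
    (g : Spec (CommRingCat.of R) ⟶ Y) {V : Y.Opens} (h : g (closedPoint R) ∈ V) :
    Set.range g ⊆ V := by
  rintro _ ⟨p, rfl⟩
  exact ((specializes_closedPoint (R := R) p).map g.continuous).mem_open V.2 h

variable [IsIntegral X] (f : X ⟶ Y)

/-- Sections of `Y` in the function field of `X`. -/
noncomputable def toFF (V : Y.Opens) (h : f (genericPoint X) ∈ V) : Γ(Y, V) →+* X.functionField :=
  (Y.presheaf.germ V _ h ≫ f.stalkMap (genericPoint X)).hom

theorem gen_mem {U : X.Opens} {x : X} (hx : x ∈ U) : genericPoint X ∈ U :=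
  (genericPoint_specializes x).mem_open U.2 hx

theorem toFF_eq {V : Y.Opens} (h : f (genericPoint X) ∈ V) {U : X.Opens} (e : U ≤ f ⁻¹ᵁ V)
    (hU : genericPoint X ∈ U) (c : Γ(Y, V)) :
    toFF f V h c = X.presheaf.germ U _ hU (f.appLE V U e c) := by
  refine congrFun (congrArg (fun φ : Γ(Y, V) ⟶ X.functionField => (φ : Γ(Y, V) → X.functionField))
    (show Y.presheaf.germ V _ h ≫ f.stalkMap (genericPoint X) = f.appLE V U e ≫ X.presheaf.germ U _ hU from ?_)) c
  rw [Scheme.Hom.germ_stalkMap, Scheme.Hom.appLE, Category.assoc, X.presheaf.germ_res']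

theorem toFF_essFiniteType [LocallyOfFiniteType f] {V : Y.Opens} (hV : IsAffineOpen V)
    (h : f (genericPoint X) ∈ V) : (toFF f V h).EssFiniteType := by
  refine RingHom.EssFiniteType.comp ?_ (LocallyOfFiniteType.stalkMap f (genericPoint X))
  letI := TopCat.Presheaf.algebra_section_stalk Y.presheaf (⟨f (genericPoint X), h⟩ : V)
  have := hV.isLocalization_stalk ⟨f (genericPoint X), h⟩
  exact RingHom.essFiniteType_algebraMap.mpr
    (Algebra.EssFiniteType.of_isLocalization _ (hV.primeIdealOf ⟨f (genericPoint X), h⟩).asIdeal.primeCompl)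

/-- Every discrete valuation ring of the function field centred on an affine open `V` of `Y` has a
centre on `X` over `V`. -/
def CentreHyp : Prop :=
  ∀ (V : Y.Opens) (_ : IsAffineOpen V) (h : f (genericPoint X) ∈ V) (R : ValuationSubring X.functionField),
    IsDiscreteValuationRing R → (∀ c, toFF f V h c ∈ R) →
      ∃ x : X, f x ∈ V ∧ ∀ a : X.presheaf.stalk x, algebraMap (X.presheaf.stalk x) X.functionField a ∈ R

theorem exists_centre [IsLocallyNoetherian Y] [LocallyOfFiniteType f] [QuasiCompact f]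
    (hf : CentreHyp f) {V : Y.Opens} (hV : IsAffineOpen V) (hξ : f (genericPoint X) ∈ V)
    (W : ValuationSubring X.functionField) (hW : ∀ c, toFF f V hξ c ∈ W) :
    ∃ (U : X.Opens) (_ : IsAffineOpen U) (_ : U ≤ f ⁻¹ᵁ V) (h : genericPoint X ∈ U),
      ∀ b, X.presheaf.germ U _ h b ∈ W := by
  classical
  by_contra hne
  have hsub : ∀ z : f ⁻¹ᵁ V, ∃ U : X.Opens, IsAffineOpen U ∧ z.1 ∈ U ∧ U ≤ f ⁻¹ᵁ V := fun z => by
    obtain ⟨_, ⟨U, hU, rfl⟩, hz, hle⟩ :=
      X.isBasis_affineOpens.exists_subset_of_mem_open z.2 (f ⁻¹ᵁ V).2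
    exact ⟨U, hU, hz, hle⟩
  choose U hU hzU hle using hsub
  obtain ⟨T, hT⟩ := (f.isCompact_preimage hV.isCompact).elim_finite_subcover
    (fun z => (U z : Set X)) (fun z => (U z).2)
    (fun z hz => Set.mem_iUnion.mpr ⟨⟨z, hz⟩, hzU ⟨z, hz⟩⟩)
  have hbad : ∀ z : f ⁻¹ᵁ V, ∃ b, X.presheaf.germ (U z) _ (gen_mem (hzU z)) b ∉ W := fun z => by
    by_contra hc
    exact hne ⟨U z, hU z, hle z, gen_mem (hzU z), fun b => not_not.mp fun hb => hc ⟨b, hb⟩⟩
  choose b hb using hbad
  have : IsNoetherianRing Γ(Y, V) := IsLocallyNoetherian.component_noetherian ⟨V, hV⟩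
  have hTne : T.Nonempty := by
    obtain ⟨z, hz, -⟩ := Set.mem_iUnion₂.mp (hT hξ)
    exact ⟨z, hz⟩
  obtain ⟨R, hR, hRC, hRs⟩ := exists_dvr_not_mem (toFF f V hξ) (toFF_essFiniteType f hV hξ) W hW
    (T.image fun z => X.presheaf.germ (U z) _ (gen_mem (hzU z)) (b z))
    (by intro a ha; obtain ⟨z, -, rfl⟩ := Finset.mem_image.mp ha; exact hb z) (hTne.image _)
  obtain ⟨x, hxV, hx⟩ := hf V hV hξ R hR hRC
  obtain ⟨z, hz, hxz⟩ := Set.mem_iUnion₂.mp (hT hxV)
  refine hRs _ (Finset.mem_image_of_mem _ hz) ?_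
  have h1 := hx (X.presheaf.germ (U z) x hxz (b z))
  have h2 : algebraMap (X.presheaf.stalk x) X.functionField (X.presheaf.germ (U z) x hxz (b z)) =
      X.presheaf.germ (U z) _ (gen_mem (hzU z)) (b z) :=
    congrFun (congrArg (fun φ : Γ(X, U z) ⟶ X.functionField => (φ : Γ(X, U z) → X.functionField))
      (X.presheaf.germ_stalkSpecializes hxz (genericPoint_specializes x))) (b z)
  exact h2 ▸ h1

/-- Lifts for squares over an affine open `V` on which every valuation ring has a centre. -/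
theorem exists_lift_of_centre [IsSeparated f] (S : ValuativeCommSq f) {V : Y.Opens}
    (hV : IsAffineOpen V) (hyV : S.i₂ (closedPoint S.R) ∈ V)
    (hgood : ∀ (hξV : f (genericPoint X) ∈ V) (W : ValuationSubring X.functionField),
      (∀ c, toFF f V hξV c ∈ W) →
        ∃ (U : X.Opens) (_ : IsAffineOpen U) (_ : U ≤ f ⁻¹ᵁ V) (h : genericPoint X ∈ U),
          ∀ b, X.presheaf.germ U _ h b ∈ W) :
    S.commSq.HasLift := by
  obtain ⟨R, K, i₁, i₂, ⟨w⟩⟩ := S
  replace hyV : i₂ (closedPoint R) ∈ V := hyV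
  let x := i₁ (closedPoint K)
  have hi₂ := range_subset_of_closedPoint i₂ hyV
  obtain ⟨χ, hχ⟩ := exists_factor hV i₂ hi₂
  have hxV : f x ∈ V := by
    show f (i₁ (closedPoint K)) ∈ V
    rw [← Scheme.Hom.comp_apply, w, Scheme.Hom.comp_apply]
    exact hi₂ ⟨_, rfl⟩
  obtain ⟨_, ⟨U₁, hU₁, rfl⟩, hxU₁, hle₁⟩ :=
    X.isBasis_affineOpens.exists_subset_of_mem_open (show x ∈ f ⁻¹ᵁ V from hxV) (f ⁻¹ᵁ V).2
  have hξU₁ : genericPoint X ∈ U₁ := gen_mem hxU₁
  have hξV : f (genericPoint X) ∈ V := hle₁ hξU₁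
  -- the point `i₁` through an affine open
  let d : X.residueField x ⟶ CommRingCat.of K := X.descResidueField (Scheme.stalkClosedPointTo i₁)
  have hi₁ : ∀ (U : X.Opens) (hU : IsAffineOpen U) (hxU : x ∈ U),
      i₁ = Spec.map (X.presheaf.germ U x hxU ≫ X.residue x ≫ d) ≫ hU.fromSpec := fun U hU hxU => by
    have h1 : Spec.map d ≫ X.fromSpecResidueField x = i₁ :=
      X.descResidueField_stalkClosedPointTo_fromSpecResidueField K i₁
    rw [← h1, Scheme.fromSpecResidueField, ← hU.fromSpecStalk_eq_fromSpecStalk hxU,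
      IsAffineOpen.fromSpecStalk]
    simp only [Spec.map_comp, Category.assoc]
  have hcomm : f.appLE V U₁ hle₁ ≫ X.presheaf.germ U₁ x hxU₁ ≫ X.residue x ≫ d =
      χ ≫ CommRingCat.ofHom (algebraMap R K) := by
    apply fromSpec_inj hV
    rw [Spec.map_comp, Category.assoc, IsAffineOpen.SpecMap_appLE_fromSpec f hV hU₁,
      ← Category.assoc, ← hi₁ U₁ hU₁ hxU₁, w, hχ, Spec.map_comp, Category.assoc]
  -- a valuation ring of the function field at `x`
  have : IsLocalHom (algebraMap (X.presheaf.stalk x) X.functionField).rangeRestrict :=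
    .of_surjective _ (RingHom.rangeRestrict_surjective _)
  obtain ⟨V₀, hV₀, hloc⟩ := exists_factor_valuationRing (algebraMap (X.presheaf.stalk x) X.functionField)
  let φ₀ : X.presheaf.stalk x →+* V₀ :=
    (algebraMap (X.presheaf.stalk x) X.functionField).codRestrict V₀.toSubring hV₀
  let ι : X.residueField x →+* ResidueField V₀ := ResidueField.map φ₀
  -- the valuation ring of `κ(x)` and its extension
  let RR : ValuationSubring K := ValuationSubring.ofSubring (algebraMap R K).range fun k => by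
    obtain ⟨r, hr⟩ | ⟨r, hr⟩ := ValuationRing.isInteger_or_isInteger R k
    · exact Or.inl ⟨r, hr⟩
    · exact Or.inr ⟨r, hr⟩
  let A : ValuationSubring (X.residueField x) := RR.comap d.hom
  obtain ⟨W', hW', hlocW'⟩ := exists_factor_valuationRing (ι.comp A.subtype)
  let W : ValuationSubring X.functionField := ValuationSubring.ofSubring
    ((W'.toSubring.comap (residue V₀)).map V₀.subtype) fun a => by
      rcases V₀.mem_or_inv_mem a with h | h
      · by_cases hr : residue V₀ ⟨a, h⟩ ∈ W'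
        · exact Or.inl ⟨⟨a, h⟩, hr, rfl⟩
        · right
          have hne : residue V₀ ⟨a, h⟩ ≠ 0 := fun h0 => hr (h0 ▸ W'.zero_mem)
          obtain ⟨v, hv⟩ := (residue_ne_zero_iff_isUnit _).mp hne
          refine ⟨↑v⁻¹, ?_, ?_⟩
          · show residue V₀ ↑v⁻¹ ∈ W'
            rw [map_units_inv, hv]
            exact (W'.mem_or_inv_mem _).resolve_left hr
          · have h5 : ((↑v⁻¹ : V₀) : X.functionField) * (v : V₀) = 1 :=
              congrArg Subtype.val v.inv_mul
            rw [hv] at h5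
            exact eq_inv_of_mul_eq_one_left h5
      · by_cases hu : IsUnit (⟨a⁻¹, h⟩ : V₀)
        · obtain ⟨v, hv⟩ := hu
          by_cases hr : residue V₀ ⟨a⁻¹, h⟩ ∈ W'
          · exact Or.inr ⟨⟨a⁻¹, h⟩, hr, rfl⟩
          · left
            refine ⟨↑v⁻¹, ?_, ?_⟩
            · show residue V₀ ↑v⁻¹ ∈ W'
              rw [map_units_inv, hv]
              exact (W'.mem_or_inv_mem _).resolve_left hr
            · have h5 : ((↑v⁻¹ : V₀) : X.functionField) * (v : V₀) = 1 :=
                congrArg Subtype.val v.inv_mul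
              rw [hv] at h5
              exact (eq_inv_of_mul_eq_one_left h5).trans (inv_inv a)
        · refine Or.inr ⟨⟨a⁻¹, h⟩, ?_, rfl⟩
          show residue V₀ ⟨a⁻¹, h⟩ ∈ W'
          rw [(residue_eq_zero_iff _).mpr hu]
          exact W'.zero_mem
  have hgerm : ∀ (U : X.Opens) (hxU : x ∈ U) (b : Γ(X, U)),
      (φ₀ (X.presheaf.germ U x hxU b) : X.functionField) =
        X.presheaf.germ U _ (gen_mem hxU) b := fun U hxU b =>
    congrFun (congrArg (fun φ : Γ(X, U) ⟶ X.functionField => (φ : Γ(X, U) → X.functionField))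
      (X.presheaf.germ_stalkSpecializes hxU (genericPoint_specializes x))) b
  have hW : ∀ c, toFF f V hξV c ∈ W := fun c => by
    rw [toFF_eq f hξV hle₁ hξU₁, ← hgerm U₁ hxU₁]
    refine ⟨φ₀ _, ?_, rfl⟩
    show residue V₀ (φ₀ _) ∈ W'
    rw [← ResidueField.map_residue φ₀]
    have hmem : X.residue x (X.presheaf.germ U₁ x hxU₁ (f.appLE V U₁ hle₁ c)) ∈ A :=
      ⟨χ c, (congrFun (congrArg (fun φ : Γ(Y, V) ⟶ CommRingCat.of K => (φ : Γ(Y, V) → K)) hcomm) c).symm⟩
    exact hW' ⟨_, hmem⟩
  obtain ⟨U, hU, hle, hξU, hUW⟩ := hgood hξV W hW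
  -- `x` is in `U`
  have hUV₀ : ∀ b, X.presheaf.germ U _ hξU b ∈ V₀ := fun b => by
    obtain ⟨v, -, hv⟩ := hUW b
    exact hv ▸ v.2
  let ψ : Γ(X, U) →+* V₀ := (X.presheaf.germ U _ hξU).hom.codRestrict V₀.toSubring hUV₀
  have hxU : x ∈ U := by
    let g₁ := Spec.map (CommRingCat.ofHom φ₀) ≫ X.fromSpecStalk x
    let g₂ := Spec.map (CommRingCat.ofHom ψ) ≫ hU.fromSpec
    let j := Spec.map (CommRingCat.ofHom V₀.subtype)
    have hj₁ : j ≫ g₁ = X.fromSpecStalk (genericPoint X) := by
      simp only [j, g₁, ← Spec.map_comp_assoc]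
      exact Scheme.SpecMap_stalkSpecializes_fromSpecStalk (genericPoint_specializes x)
    have hj₂ : j ≫ g₂ = X.fromSpecStalk (genericPoint X) := by
      simp only [j, g₂, ← Spec.map_comp_assoc]
      rw [← hU.fromSpecStalk_eq_fromSpecStalk hξU, IsAffineOpen.fromSpecStalk]
      rfl
    have hg₁ : g₁ = Spec.map (X.presheaf.germ U₁ x hxU₁ ≫ CommRingCat.ofHom φ₀) ≫ hU₁.fromSpec := by
      simp only [g₁, Spec.map_comp, Category.assoc]
      rw [← hU₁.fromSpecStalk_eq_fromSpecStalk hxU₁, IsAffineOpen.fromSpecStalk]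
    have hover : g₁ ≫ f = g₂ ≫ f := by
      rw [hg₁, Category.assoc, ← IsAffineOpen.SpecMap_appLE_fromSpec f hV hU₁ hle₁]
      simp only [g₂, Category.assoc]
      rw [← IsAffineOpen.SpecMap_appLE_fromSpec f hV hU hle, ← Spec.map_comp_assoc,
        ← Spec.map_comp_assoc]
      congr 2
      refine CommRingCat.hom_ext (RingHom.ext fun c => Subtype.ext ?_)
      refine (hgerm U₁ hxU₁ (f.appLE V U₁ hle₁ c)).trans ?_
      rw [← toFF_eq f hξV hle₁, toFF_eq f hξV hle hξU]
      rfl
    have : IsDominant j := by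
      rw [isDominant_iff]
      exact PrimeSpectrum.denseRange_comap_iff_ker_le_nilRadical _ |>.mpr
        (((RingHom.injective_iff_ker_eq_bot _).mp Subtype.val_injective).le.trans bot_le)
    have hg : g₁ = g₂ := ext_of_isDominant_of_isSeparated f hover j (hj₁.trans hj₂.symm)
    have h1 : g₁ (closedPoint V₀) = x := by
      rw [Scheme.Hom.comp_apply]
      exact (congrArg _ (comap_closedPoint (S := V₀) φ₀)).trans X.fromSpecStalk_closedPoint
    have h2 : g₂ (closedPoint V₀) ∈ Set.range hU.fromSpec :=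
      ⟨Spec.map (CommRingCat.ofHom ψ) (closedPoint V₀), (Scheme.Hom.comp_apply _ _ _).symm⟩
    rw [hU.range_fromSpec, ← hg, h1] at h2
    exact h2
  -- the values on `U` at `x` are integral
  have hval : ∀ b : Γ(X, U), (X.presheaf.germ U x hxU ≫ X.residue x ≫ d) b ∈ RR := fun b => by
    obtain ⟨v, hv, hv'⟩ := hUW b
    have hv₂ : v = φ₀ (X.presheaf.germ U x hxU b) := Subtype.ext (hv'.trans (hgerm U hxU b).symm)
    have h3 : ι (residue _ (X.presheaf.germ U x hxU b)) ∈ W' := by
      show ResidueField.map φ₀ (residue (X.presheaf.stalk x) (X.presheaf.germ U x hxU b)) ∈ W'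
      refine (ResidueField.map_residue φ₀ (X.presheaf.germ U x hxU b)).symm ▸ ?_
      exact hv₂ ▸ hv
    show residue _ (X.presheaf.germ U x hxU b) ∈ A
    by_contra hA
    let e := residue (X.presheaf.stalk x) (X.presheaf.germ U x hxU b)
    have he : e ≠ 0 := fun h0 => hA (show e ∈ A from h0 ▸ A.zero_mem)
    let e' : A := ⟨e⁻¹, (A.mem_or_inv_mem e).resolve_left hA⟩
    have hu : ¬ IsUnit e' := fun hu => hA (by
      obtain ⟨v', hv'⟩ := hu
      have h5 : ((↑v'⁻¹ : A) : X.residueField x) * (v' : A) = 1 := congrArg Subtype.val v'.inv_mul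
      rw [hv'] at h5
      have h6 := eq_inv_of_mul_eq_one_left h5
      rw [inv_inv] at h6
      show e ∈ A
      rw [← h6]
      exact (↑v'⁻¹ : A).2)
    refine hu ((isUnit_map_iff ((ι.comp A.subtype).codRestrict W'.toSubring hW') e').mp ?_)
    refine IsUnit.of_mul_eq_one (⟨ι e, h3⟩ : W') (Subtype.ext ?_)
    show ι e⁻¹ * ι e = 1
    rw [← map_mul, inv_mul_cancel₀ he, map_one]
  choose lft hlft using hval
  have hinj := IsFractionRing.injective R K
  let l : Γ(X, U) ⟶ CommRingCat.of R := CommRingCat.ofHom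
    { toFun := lft
      map_one' := hinj (by rw [hlft, map_one, map_one])
      map_mul' := fun a b => hinj (by rw [hlft, map_mul, map_mul, hlft, hlft])
      map_zero' := hinj (by rw [hlft, map_zero, map_zero])
      map_add' := fun a b => hinj (by rw [hlft, map_add, map_add, hlft, hlft]) }
  have hl : l ≫ CommRingCat.ofHom (algebraMap R K) = X.presheaf.germ U x hxU ≫ X.residue x ≫ d :=
    CommRingCat.hom_ext (RingHom.ext fun b => hlft b)
  refine ⟨⟨⟨Spec.map l ≫ hU.fromSpec, ?_, ?_⟩⟩⟩
  · show Spec.map (CommRingCat.ofHom (algebraMap R K)) ≫ Spec.map l ≫ hU.fromSpec = i₁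
    rw [← Spec.map_comp_assoc, hl, ← hi₁ U hU hxU]
  · show (Spec.map l ≫ hU.fromSpec) ≫ f = i₂
    rw [Category.assoc, ← IsAffineOpen.SpecMap_appLE_fromSpec f hV hU hle, hχ, ← Spec.map_comp_assoc]
    congr 2
    have h7 : f.appLE V U hle ≫ l ≫ CommRingCat.ofHom (algebraMap R K) =
        χ ≫ CommRingCat.ofHom (algebraMap R K) := by
      apply fromSpec_inj hV
      rw [hl, Spec.map_comp, Category.assoc, IsAffineOpen.SpecMap_appLE_fromSpec f hV hU,
        ← Category.assoc, ← hi₁ U hU hxU, w, hχ, Spec.map_comp, Category.assoc]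
    refine CommRingCat.hom_ext (RingHom.ext fun c => hinj ?_)
    exact congrFun (congrArg (fun φ : Γ(Y, V) ⟶ CommRingCat.of K => (φ : Γ(Y, V) → K)) h7) c

theorem existence_of_centre [IsLocallyNoetherian Y] [LocallyOfFiniteType f] [QuasiCompact f]
    [IsSeparated f] (hf : CentreHyp f) : ValuativeCriterion.Existence f := by
  intro S
  obtain ⟨_, ⟨V, hV, rfl⟩, hyV, -⟩ :=
    Y.isBasis_affineOpens.exists_subset_of_mem_open (Set.mem_univ (S.i₂ (closedPoint S.R))) isOpen_univ
  exact exists_lift_of_centre f S hV hyV fun hξV W hW => exists_centre f hf hV hξV W hW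

theorem universallyClosed_of_centre [IsLocallyNoetherian Y] [LocallyOfFiniteType f] [QuasiCompact f]
    [IsSeparated f] (hf : CentreHyp f) : UniversallyClosed f :=
  UniversallyClosed.of_valuativeCriterion f (existence_of_centre f hf)

/-- A valuation ring of the function field over an affine open `V` of `Y` has a centre in `V`. -/
theorem exists_centre_base {V : Y.Opens} (hV : IsAffineOpen V) (h : f (genericPoint X) ∈ V)
    (R : ValuationSubring X.functionField) (hR : ∀ c, toFF f V h c ∈ R) :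
    ∃ (y : Y) (hy : f (genericPoint X) ⤳ y) (φ : Y.presheaf.stalk y →+* R), y ∈ V ∧ IsLocalHom φ ∧
      ∀ a, (φ a : X.functionField) =
        (Y.presheaf.stalkSpecializes hy ≫ f.stalkMap (genericPoint X)) a := by
  let χ : Γ(Y, V) ⟶ CommRingCat.of R :=
    CommRingCat.ofHom ((toFF f V h).codRestrict R.toSubring hR)
  let g := Spec.map χ ≫ hV.fromSpec
  let y := g (closedPoint R)
  have hyV : y ∈ V := by
    have : y ∈ Set.range hV.fromSpec := ⟨Spec.map χ (closedPoint R), (Scheme.Hom.comp_apply _ _ _).symm⟩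
    rwa [hV.range_fromSpec] at this
  let j := Spec.map (CommRingCat.ofHom R.subtype)
  have hj : j ≫ g = X.fromSpecStalk (genericPoint X) ≫ f := by
    rw [← Scheme.SpecMap_stalkMap_fromSpecStalk, ← hV.fromSpecStalk_eq_fromSpecStalk h,
      IsAffineOpen.fromSpecStalk]
    simp only [j, g, ← Spec.map_comp_assoc]
    rfl
  have hy : f (genericPoint X) ⤳ y := by
    have h1 : (j ≫ g) (closedPoint X.functionField) = f (genericPoint X) := by
      rw [hj, Scheme.Hom.comp_apply]
      exact congrArg f X.fromSpecStalk_closedPoint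
    rw [← h1, Scheme.Hom.comp_apply]
    exact (specializes_closedPoint (R := R) _).map g.continuous
  refine ⟨y, hy, (Scheme.stalkClosedPointTo g).hom, hyV,
    inferInstanceAs (IsLocalHom (Scheme.stalkClosedPointTo g).hom), fun a => ?_⟩
  letI := TopCat.Presheaf.algebra_section_stalk Y.presheaf (⟨y, hyV⟩ : V)
  have := hV.isLocalization_stalk ⟨y, hyV⟩
  refine congrFun (congrArg DFunLike.coe (IsLocalization.ringHom_ext
    (hV.primeIdealOf ⟨y, hyV⟩).asIdeal.primeCompl
    (j := R.subtype.comp (Scheme.stalkClosedPointTo g).hom)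
    (k := (Y.presheaf.stalkSpecializes hy ≫ f.stalkMap (genericPoint X)).hom) ?_)) a
  have e : Y.presheaf.germ V y hyV ≫ Scheme.stalkClosedPointTo g = χ := by
    apply fromSpec_inj hV
    rw [Spec.map_comp, Category.assoc]
    have := hV.fromSpecStalk_eq_fromSpecStalk hyV
    rw [IsAffineOpen.fromSpecStalk] at this
    rw [this]
    exact Scheme.Spec_stalkClosedPointTo_fromSpecStalk g
  refine RingHom.ext fun c => ?_
  refine (congrArg Subtype.val (congrFun (congrArg
    (fun φ : Γ(Y, V) ⟶ CommRingCat.of R => (φ : Γ(Y, V) → R)) e) c)).trans ?_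
  show (Y.presheaf.germ V _ h ≫ f.stalkMap (genericPoint X)) c =
    (Y.presheaf.germ V y hyV ≫ Y.presheaf.stalkSpecializes hy ≫ f.stalkMap (genericPoint X)) c
  rw [TopCat.Presheaf.germ_stalkSpecializes_assoc]

theorem centreHyp_of_dominates [Y.IsSeparated]
    (hf : ∀ (R : ValuationSubring X.functionField), IsDiscreteValuationRing R →
      ∀ (y : Y) (hy : f (genericPoint X) ⤳ y),
        ((∀ a, (Y.presheaf.stalkSpecializes hy ≫ f.stalkMap (genericPoint X)) a ∈ R) ∧
          ∀ a ∈ maximalIdeal (Y.presheaf.stalk y),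
            R.valuation ((Y.presheaf.stalkSpecializes hy ≫ f.stalkMap (genericPoint X)) a) < 1) →
        ∃ x : X, (∀ a : X.presheaf.stalk x, algebraMap (X.presheaf.stalk x) X.functionField a ∈ R) ∧
          ∀ a ∈ maximalIdeal (X.presheaf.stalk x),
            R.valuation (algebraMap (X.presheaf.stalk x) X.functionField a) < 1) :
    CentreHyp f := by
  intro V hV h R hR hC
  obtain ⟨y, hy, φ, hyV, hφ, hφe⟩ := exists_centre_base f hV h R hC
  obtain ⟨x, hx1, hx2⟩ := hf R hR y hy ⟨fun a => hφe a ▸ (φ a).2, fun a ha => by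
    rw [← hφe, ← ValuationSubring.mem_nonunits_iff]
    exact ValuationSubring.coe_mem_nonunits_iff.mpr (fun hu => ha (hφ.map_nonunit a hu))⟩
  refine ⟨x, ?_, hx1⟩
  let ψ : X.presheaf.stalk x →+* R := (algebraMap (X.presheaf.stalk x) X.functionField).codRestrict R.toSubring hx1
  have : IsLocalHom ψ := ⟨fun a ha => by
    by_contra hu
    exact (ValuationSubring.coe_mem_nonunits_iff.mp (R.mem_nonunits_iff.mpr (hx2 a hu))) ha⟩
  let j := Spec.map (CommRingCat.ofHom R.subtype)
  let g₁ := Spec.map (CommRingCat.ofHom ψ) ≫ X.fromSpecStalk x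
  let g₂ := Spec.map (CommRingCat.ofHom φ) ≫ Y.fromSpecStalk y
  have h1 : j ≫ g₁ ≫ f = X.fromSpecStalk (genericPoint X) ≫ f := by
    simp only [j, g₁, Category.assoc, ← Spec.map_comp_assoc]
    rw [← Scheme.SpecMap_stalkSpecializes_fromSpecStalk (genericPoint_specializes x)]
    rfl
  have h2 : j ≫ g₂ = X.fromSpecStalk (genericPoint X) ≫ f := by
    rw [← Scheme.SpecMap_stalkMap_fromSpecStalk, ← Scheme.SpecMap_stalkSpecializes_fromSpecStalk hy]
    simp only [j, g₂, ← Spec.map_comp_assoc]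
    congr 2
    exact CommRingCat.hom_ext (RingHom.ext hφe)
  have : IsDominant j := by
    rw [isDominant_iff]
    exact PrimeSpectrum.denseRange_comap_iff_ker_le_nilRadical _ |>.mpr
      (((RingHom.injective_iff_ker_eq_bot _).mp Subtype.val_injective).le.trans bot_le)
  have he : g₁ ≫ f = g₂ := ext_of_isDominant (ι := j) (h1.trans h2.symm)
  have h3 : (g₁ ≫ f) (closedPoint R) = f x := by
    simp only [g₁, Scheme.Hom.comp_apply]
    exact congrArg f ((congrArg _ (comap_closedPoint (S := R) ψ)).trans X.fromSpecStalk_closedPoint)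
  have h4 : g₂ (closedPoint R) = y := by
    simp only [g₂, Scheme.Hom.comp_apply]
    exact (congrArg _ (comap_closedPoint (S := R) φ)).trans Y.fromSpecStalk_closedPoint
  rw [← h3, he, h4]
  exact hyV

end Groth.Agent.DVRCrit
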