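import Mathlib
import Groth.Agent.DVRCrit.Scheme
import Groth.Agent.DVRCrit.Local
import Groth.Agent.DVRCrit.Centre
import Groth.Agent.DVRCrit.Spread
import Groth.Agent.SpreadOut.Components

set_option autoImplicit false
set_option linter.style.haveILetI false

/-! # DVR criteria at the generic points of the irreducible components -/

universe u

open CategoryTheory CategoryTheory.Limits AlgebraicGeometry IsLocalRing TopologicalSpace

namespace Groth.Agent.DVRCrit

variable {X Y U : Scheme.{u}}

theorem isDominant_subtype {L : Type u} [Field L] (A : ValuationSubring L) :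
    IsDominant (Spec.map (CommRingCat.ofHom A.subtype)) := by
  rw [isDominant_iff]
  exact PrimeSpectrum.denseRange_comap_iff_ker_le_nilRadical _ |>.mpr
    (((RingHom.injective_iff_ker_eq_bot _).mp Subtype.val_injective).le.trans bot_le)

/-- Separatedness from uniqueness at generic points. -/
theorem isSeparated_of_generic [IsLocallyNoetherian Y] (f : X ⟶ Y) [LocallyOfFiniteType f]
    (H : ∀ (η : X), closure {η} ∈ irreducibleComponents (X : Type u) →
      ∀ (A : ValuationSubring (X.residueField η)), IsDiscreteValuationRing A →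
        ∀ l₁ l₂ : Spec (CommRingCat.of A) ⟶ X, l₁ ≫ f = l₂ ≫ f →
          Spec.map (CommRingCat.ofHom A.subtype) ≫ l₁ = X.fromSpecResidueField η →
          Spec.map (CommRingCat.ofHom A.subtype) ≫ l₂ = X.fromSpecResidueField η → l₁ = l₂) :
    IsSeparated f := by
  have : IsLocallyNoetherian X := LocallyOfFiniteType.isLocallyNoetherian f
  have : IsLocallyNoetherian (pullback f f) :=
    LocallyOfFiniteType.isLocallyNoetherian (pullback.fst f f ≫ f)
  constructor
  refine IsClosedImmersion.of_isPreimmersion _ ?_
  let Δ := pullback.diagonal f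
  have key : ∀ z ∈ closure (Set.range Δ), z ∈ Set.range Δ := by
    intro z hz
    rw [← Set.image_univ] at hz
    obtain ⟨x, -, hx⟩ := SpreadOut.exists_specializes_of_mem_closure_image Δ isClosed_univ hz
    obtain ⟨η, hη⟩ := QuasiSober.sober
      (isIrreducible_irreducibleComponent (x := x)) isClosed_irreducibleComponent
    have hηx : η ⤳ x := hη.specializes mem_irreducibleComponent
    have hz' : Δ η ⤳ z := (hηx.map Δ.continuous).trans hx
    by_cases hne : z = Δ η
    · exact ⟨η, hne.symm⟩
    obtain ⟨A, h, hA, hh, w⟩ := exists_dvr_residueField Δ η z hz' hne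
    have e := H η (by rw [show closure {η} = irreducibleComponent x from hη]
                      exact irreducibleComponent_mem_irreducibleComponents x)
      A hA (h ≫ pullback.fst f f) (h ≫ pullback.snd f f)
      (by rw [Category.assoc, Category.assoc, pullback.condition])
      (by rw [reassoc_of% w]; exact (congrArg _ (pullback.diagonal_fst f)).trans (Category.comp_id _))
      (by rw [reassoc_of% w]; exact (congrArg _ (pullback.diagonal_snd f)).trans (Category.comp_id _))
    refine ⟨(h ≫ pullback.fst f f) (closedPoint A), ?_⟩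
    have : (h ≫ pullback.fst f f) ≫ Δ = h := by
      apply pullback.hom_ext
      · simp [Δ]
      · simp [Δ, e]
    rw [← hh]
    exact congrArg (fun φ : Spec (CommRingCat.of A) ⟶ pullback f f => φ (closedPoint A)) this
  exact isClosed_of_closure_subset key

/-- The existence part of the valuative criterion from existence at the generic points. -/
theorem existence_of_generic [IsLocallyNoetherian Y] (f : X ⟶ Y) [LocallyOfFiniteType f]
    [QuasiCompact f] [IsSeparated f]
    (H : ∀ (η : X), closure {η} ∈ irreducibleComponents (X : Type u) →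
      ∀ (A : ValuationSubring (X.residueField η)), IsDiscreteValuationRing A →
        ∀ y : Spec (CommRingCat.of A) ⟶ Y,
          Spec.map (CommRingCat.ofHom A.subtype) ≫ y = X.fromSpecResidueField η ≫ f →
          ∃ l : Spec (CommRingCat.of A) ⟶ X,
            l ≫ f = y ∧ Spec.map (CommRingCat.ofHom A.subtype) ≫ l = X.fromSpecResidueField η) :
    ValuativeCriterion.Existence f := by
  rintro ⟨R, K, i₁, i₂, ⟨w⟩⟩
  let x := i₁ (closedPoint K)
  let Zc : Closeds X := ⟨irreducibleComponent x, isClosed_irreducibleComponent⟩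
  let I := Scheme.IdealSheafData.vanishingIdeal Zc
  let ι := I.subschemeι
  have hrange : Set.range ι = irreducibleComponent x := by
    rw [Scheme.IdealSheafData.range_subschemeι, Scheme.IdealSheafData.coe_support_vanishingIdeal]
    rfl
  have : IsReduced I.subscheme := isReduced_vanishingIdeal _
  have : IrreducibleSpace ↥I.subscheme := by
    have hirr : IsIrreducible (Set.range ι) := hrange ▸ isIrreducible_irreducibleComponent
    have h1 : IsIrreducible (Set.univ : Set ↥I.subscheme) := by
      obtain ⟨_, ⟨p₀, rfl⟩⟩ := hirr.1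
      refine ⟨⟨p₀, trivial⟩, fun a b ha hb ha' hb' => ?_⟩
      obtain ⟨p, -, hp⟩ := ha'
      obtain ⟨q, -, hq⟩ := hb'
      obtain ⟨a', ha'o, rfl⟩ := ι.isClosedEmbedding.isInducing.isOpen_iff.mp ha
      obtain ⟨b', hb'o, rfl⟩ := ι.isClosedEmbedding.isInducing.isOpen_iff.mp hb
      obtain ⟨_, ⟨r, rfl⟩, hr⟩ := hirr.2 a' b' ha'o hb'o ⟨ι p, ⟨p, rfl⟩, hp⟩ ⟨ι q, ⟨q, rfl⟩, hq⟩
      exact ⟨r, trivial, hr⟩
    exact (irreducibleSpace_def _).mpr h1
  have : IsIntegral I.subscheme := isIntegral_of_irreducibleSpace_of_isReduced _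
  let ξ := genericPoint ↥I.subscheme
  have hξ : IsGenericPoint (ι ξ) (irreducibleComponent x) := by
    have h := (genericPoint_spec ↥I.subscheme).image ι.continuous
    rw [Set.image_univ, hrange, isClosed_irreducibleComponent.closure_eq] at h
    exact h
  have hη : closure {ι ξ} ∈ irreducibleComponents (X : Type u) := by
    rw [show closure {ι ξ} = irreducibleComponent x from hξ]
    exact irreducibleComponent_mem_irreducibleComponents x
  obtain ⟨ψ, hψb, hψ⟩ : ∃ ψ : X.residueField (ι ξ) ⟶ I.subscheme.functionField,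
      Function.Bijective ψ.hom ∧
      Spec.map ψ ≫ X.fromSpecResidueField (ι ξ) = I.subscheme.fromSpecStalk ξ ≫ ι := by
    have hker : ∀ a ∈ maximalIdeal (X.presheaf.stalk (ι ξ)), (ι.stalkMap ξ).hom a = 0 := by
      intro a ha
      by_contra h
      exact ha (IsLocalHom.map_nonunit (f := (ι.stalkMap ξ).hom) a
        (isUnit_iff_ne_zero.mpr h))
    refine ⟨CommRingCat.ofHom (Ideal.Quotient.lift _ (ι.stalkMap ξ).hom hker), ⟨?_, ?_⟩, ?_⟩
    · exact RingHom.injective _
    · exact Ideal.Quotient.lift_surjective_of_surjective _ hker (ι.stalkMap_surjective ξ)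
    · rw [Scheme.fromSpecResidueField, ← Spec.map_comp_assoc, ← Scheme.SpecMap_stalkMap_fromSpecStalk]
      rfl
  have hc : CentreHyp (ι ≫ f) := by
    intro V hV h A hA hC
    let B : ValuationSubring (X.residueField (ι ξ)) := A.comap ψ.hom
    let e : B →+* A := (ψ.hom.comp B.subtype).codRestrict A.toSubring fun b => b.2
    have he : Function.Bijective e := by
      refine ⟨fun a b h => Subtype.ext (hψb.1 (congrArg Subtype.val h)), fun a => ?_⟩
      obtain ⟨b, hb⟩ := hψb.2 a.1
      exact ⟨⟨b, show ψ.hom b ∈ A from hb ▸ a.2⟩, Subtype.ext hb⟩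
    have hB : IsDiscreteValuationRing B :=
      IsDiscreteValuationRing.RingEquivClass.isDiscreteValuationRing (RingEquiv.ofBijective e he).symm
    let ee : CommRingCat.of B ⟶ CommRingCat.of A := CommRingCat.ofHom e
    have : IsIso ee := (ConcreteCategory.isIso_iff_bijective ee).mpr he
    let χ : Γ(Y, V) ⟶ CommRingCat.of A :=
      CommRingCat.ofHom ((toFF (ι ≫ f) V h).codRestrict A.toSubring hC)
    let g := Spec.map χ ≫ hV.fromSpec
    have hg : Spec.map (CommRingCat.ofHom A.subtype) ≫ g = I.subscheme.fromSpecStalk ξ ≫ ι ≫ f := by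
      rw [← Scheme.SpecMap_stalkMap_fromSpecStalk, ← hV.fromSpecStalk_eq_fromSpecStalk h,
        IsAffineOpen.fromSpecStalk, ← Spec.map_comp_assoc, ← Spec.map_comp_assoc]
      rfl
    have hcomm : CommRingCat.ofHom B.subtype ≫ ψ = ee ≫ CommRingCat.ofHom A.subtype := rfl
    obtain ⟨l, hl₁, hl₂⟩ := H (ι ξ) hη B hB (inv (Spec.map ee) ≫ g) (by
      rw [← cancel_epi (Spec.map ψ), ← Spec.map_comp_assoc, hcomm, Spec.map_comp_assoc,
        IsIso.hom_inv_id_assoc, reassoc_of% hψ, hg])
    have hd := isDominant_subtype B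
    have hsub : Set.range l ⊆ Set.range ι := by
      refine l.continuous.range_subset_closure_image_dense hd.denseRange |>.trans ?_
      refine closure_minimal ?_ ι.isClosedEmbedding.isClosed_range
      rintro _ ⟨_, ⟨s, rfl⟩, rfl⟩
      refine ⟨ξ, ?_⟩
      rw [← Scheme.Hom.comp_apply, hl₂, Scheme.fromSpecResidueField_apply]
    have : _root_.IsReduced B := inferInstance
    obtain ⟨l', hl'⟩ := exists_factor_closed ι l hsub
    let m : Spec (CommRingCat.of A) ⟶ I.subscheme := Spec.map ee ≫ l'
    have hm : incl A ≫ m = I.subscheme.fromSpecStalk ξ := by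
      rw [← cancel_mono ι]
      simp only [m, incl, Category.assoc, hl']
      rw [← Spec.map_comp_assoc, ← hcomm, Spec.map_comp_assoc, hl₂, hψ]
    refine ⟨m (closedPoint A), ?_, fun a => ?_⟩
    · have hmf : m ≫ ι ≫ f = g := by
        simp only [m, Category.assoc, reassoc_of% hl', hl₁]
        exact IsIso.hom_inv_id_assoc _ _
      rw [← Scheme.Hom.comp_apply, hmf]
      exact hV.range_fromSpec.le ⟨Spec.map χ (closedPoint A), rfl⟩
    · rw [stalk_of_morphism A m hm a]
      exact Subtype.mem _
  obtain ⟨j, hj⟩ := exists_factor_closed ι i₁ (by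
    rintro _ ⟨s, rfl⟩
    rw [hrange, Subsingleton.elim s (closedPoint K)]
    exact mem_irreducibleComponent)
  obtain ⟨l, hl₁, hl₂⟩ := (existence_of_centre (ι ≫ f) hc (mkSq (ι ≫ f) R K j i₂
    (by rw [← Category.assoc, hj, w]))).exists_lift
  refine ⟨⟨⟨l ≫ ι, ?_, by rw [Category.assoc]; exact hl₂⟩⟩⟩
  exact ((Category.assoc _ _ _).symm.trans (congrArg (· ≫ ι) hl₁)).trans hj

/-- Properness from existence at the generic points. -/
theorem isProper_of_generic [IsLocallyNoetherian Y] (f : X ⟶ Y) [LocallyOfFiniteType f]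
    [QuasiCompact f] [IsSeparated f]
    (H : ∀ (η : X), closure {η} ∈ irreducibleComponents (X : Type u) →
      ∀ (A : ValuationSubring (X.residueField η)), IsDiscreteValuationRing A →
        ∀ y : Spec (CommRingCat.of A) ⟶ Y,
          Spec.map (CommRingCat.ofHom A.subtype) ≫ y = X.fromSpecResidueField η ≫ f →
          ∃ l : Spec (CommRingCat.of A) ⟶ X,
            l ≫ f = y ∧ Spec.map (CommRingCat.ofHom A.subtype) ≫ l = X.fromSpecResidueField η) :
    IsProper f := by
  have : UniversallyClosed f := UniversallyClosed.of_valuativeCriterion f (existence_of_generic f H)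
  exact { }

/-- A discrete valuation ring of the residue field of a generic point extends to a point of a
dominating scheme. -/
theorem exists_extension (h : U ⟶ X) [LocallyOfFiniteType h] [QuasiCompact h]
    (hd : DenseRange h.base) (η : X) (hη : closure {η} ∈ irreducibleComponents (X : Type u))
    (A : ValuationSubring (X.residueField η)) (hA : IsDiscreteValuationRing A) :
    ∃ (A' : Type u) (_ : CommRing A') (_ : IsDomain A') (_ : IsDiscreteValuationRing A')
      (e : CommRingCat.of A ⟶ CommRingCat.of A')
      (k : X.residueField η ⟶ CommRingCat.of (FractionRing A'))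
      (u : Spec (CommRingCat.of (FractionRing A')) ⟶ U),
      u ≫ h = Spec.map k ≫ X.fromSpecResidueField η ∧
      e ≫ CommRingCat.ofHom (algebraMap A' (FractionRing A')) = CommRingCat.ofHom A.subtype ≫ k ∧
      IsLocalHom e.hom := by
  have hη' : η ∈ closure (h '' Set.univ) := by rw [Set.image_univ]; exact hd η
  obtain ⟨u, -, hu⟩ := SpreadOut.exists_specializes_of_mem_closure_image h isClosed_univ hη'
  have hu' : h u = η := by
    have h1 : closure {η} ⊆ closure {h u} :=
      closure_minimal (Set.singleton_subset_iff.mpr (specializes_iff_mem_closure.mp hu)) isClosed_closure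
    have h2 := hη.2 isIrreducible_singleton.closure h1
    exact (hu.antisymm (specializes_iff_mem_closure.mpr (h2 (subset_closure rfl)))).eq
  subst hu'
  letI := (h.residueFieldMap u).hom.toAlgebra
  have hfg := fg_residueField h u
  letI : Algebra A (U.residueField u) := ((h.residueFieldMap u).hom.comp A.subtype).toAlgebra
  haveI : IsScalarTower A (X.residueField (h u)) (U.residueField u) :=
    IsScalarTower.of_algebraMap_eq fun _ => rfl
  obtain ⟨V, hV, h1, h2⟩ := exists_dvr_fg_of_prime (B := A) (L := U.residueField u)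
    (X.residueField (h u)) hfg (maximalIdeal A) (IsDiscreteValuationRing.not_a_field A)
  let q : FractionRing V ≃ₐ[V] U.residueField u := FractionRing.algEquiv V _
  let e : CommRingCat.of A ⟶ CommRingCat.of V :=
    CommRingCat.ofHom ((algebraMap A (U.residueField u)).codRestrict V.toSubring h1)
  refine ⟨V, inferInstance, inferInstance, hV, e,
    h.residueFieldMap u ≫ CommRingCat.ofHom q.symm.toRingEquiv.toRingHom,
    Spec.map (CommRingCat.ofHom q.symm.toRingEquiv.toRingHom) ≫ U.fromSpecResidueField u, ?_, ?_, ?_⟩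
  · rw [Category.assoc, ← h.SpecMap_residueFieldMap_fromSpecResidueField, Spec.map_comp, Category.assoc]
    rfl
  · ext a
    exact (q.symm.commutes _).symm
  · refine ((local_hom_TFAE e.hom).out 2 0).mp ?_
    rw [Ideal.map_le_iff_le_comap]
    intro r hr
    exact ValuationSubring.coe_mem_nonunits_iff.mp (h2 r hr)

/-- Morphisms out of the spectrum of a local domain are determined after a local injective
extension. -/
theorem eq_of_comp_eq {R R' : Type u} [CommRing R] [IsLocalRing R] [CommRing R'] [IsLocalRing R']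
    (e : CommRingCat.of R ⟶ CommRingCat.of R') [IsLocalHom e.hom] (he : Function.Injective e.hom)
    (g₁ g₂ : Spec (CommRingCat.of R) ⟶ X) (h : Spec.map e ≫ g₁ = Spec.map e ≫ g₂) : g₁ = g₂ := by
  have hc : g₁ (closedPoint R) = g₂ (closedPoint R) := by
    have := congrArg (fun φ : Spec (CommRingCat.of R') ⟶ X => φ (closedPoint R')) h
    simp only [Scheme.Hom.comp_apply] at this
    rwa [show Spec.map e (closedPoint R') = closedPoint R from comap_closedPoint e.hom] at this
  obtain ⟨_, ⟨V, hV, rfl⟩, hxV, -⟩ :=
    X.isBasis_affineOpens.exists_subset_of_mem_open (Set.mem_univ (g₁ (closedPoint R))) isOpen_univ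
  obtain ⟨χ₁, rfl⟩ := exists_factor hV g₁ (range_subset_of_closedPoint g₁ hxV)
  obtain ⟨χ₂, rfl⟩ := exists_factor hV g₂ (range_subset_of_closedPoint g₂ (hc ▸ hxV))
  rw [← Spec.map_comp_assoc, ← Spec.map_comp_assoc] at h
  have := fromSpec_inj hV h
  congr 2
  ext a
  exact he (congrArg (fun φ : Γ(X, V) ⟶ CommRingCat.of R' => φ a) this)

/-- A lift over an extension of a valuation ring of the residue field descends. -/
theorem exists_descend {η : X} (A : ValuationSubring (X.residueField η)) {A' : Type u} [CommRing A']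
    [IsDomain A'] [IsLocalRing A'] (e : CommRingCat.of A ⟶ CommRingCat.of A') [IsLocalHom e.hom]
    (k : X.residueField η ⟶ CommRingCat.of (FractionRing A'))
    (hek : e ≫ CommRingCat.ofHom (algebraMap A' (FractionRing A')) = CommRingCat.ofHom A.subtype ≫ k)
    (g : Spec (CommRingCat.of A') ⟶ X)
    (hg : Spec.map (CommRingCat.ofHom (algebraMap A' (FractionRing A'))) ≫ g =
      Spec.map k ≫ X.fromSpecResidueField η) :
    ∃ l : Spec (CommRingCat.of A) ⟶ X, Spec.map e ≫ l = g ∧
      Spec.map (CommRingCat.ofHom A.subtype) ≫ l = X.fromSpecResidueField η := by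
  obtain ⟨_, ⟨V, hV, rfl⟩, hxV, -⟩ :=
    X.isBasis_affineOpens.exists_subset_of_mem_open (Set.mem_univ (g (closedPoint A'))) isOpen_univ
  have hηV : η ∈ V := by
    have := congrArg (fun φ : Spec (CommRingCat.of (FractionRing A')) ⟶ X =>
      φ (closedPoint (FractionRing A'))) hg
    simp only [Scheme.Hom.comp_apply, Scheme.fromSpecResidueField_apply] at this
    rw [← this]
    exact range_subset_of_closedPoint g hxV ⟨_, rfl⟩
  obtain ⟨Θ, hΘ⟩ := exists_factor hV (X.fromSpecResidueField η)
    (by rw [Scheme.range_fromSpecResidueField]; simpa using hηV)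
  obtain ⟨χ, rfl⟩ := exists_factor hV g (range_subset_of_closedPoint g hxV)
  rw [hΘ, ← Spec.map_comp_assoc, ← Spec.map_comp_assoc] at hg
  have hkey := fromSpec_inj hV hg
  have hk : Function.Injective k.hom := RingHom.injective _
  have hΘA : ∀ c, Θ c ∈ A := by
    intro c
    by_contra hc
    have hne : Θ c ≠ 0 := fun h => hc (h ▸ A.zero_mem)
    have hinv : (Θ c)⁻¹ ∈ A := (A.mem_or_inv_mem _).resolve_left hc
    have hnu : ¬ IsUnit (⟨_, hinv⟩ : A) := by
      intro hu
      obtain ⟨b, hb⟩ := hu.exists_right_inv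
      have : (Θ c)⁻¹ * b.1 = 1 := congrArg Subtype.val hb
      have hb' : b.1 = Θ c := by
        rw [← mul_right_inj' (inv_ne_zero hne), this, inv_mul_cancel₀ hne]
      exact hc (hb' ▸ b.2)
    refine hnu (IsLocalHom.map_nonunit (f := e.hom) _ ⟨⟨e ⟨_, hinv⟩, χ c, ?_, ?_⟩, rfl⟩)
    all_goals
      apply IsFractionRing.injective A' (FractionRing A')
      rw [map_mul, map_one]
      have h1 := congrArg (fun φ : CommRingCat.of A ⟶ CommRingCat.of (FractionRing A') =>
        φ ⟨_, hinv⟩) hek
      have h2 := congrArg (fun φ : Γ(X, V) ⟶ CommRingCat.of (FractionRing A') => φ c) hkey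
      change algebraMap A' (FractionRing A') (e ⟨_, hinv⟩) = k.hom (Θ c)⁻¹ at h1
      change algebraMap A' (FractionRing A') (χ c) = k.hom (Θ c) at h2
      rw [h1, h2, ← map_mul]
      simp [hne]
  let φ : Γ(X, V) ⟶ CommRingCat.of A := CommRingCat.ofHom (Θ.hom.codRestrict A.toSubring hΘA)
  refine ⟨Spec.map φ ≫ hV.fromSpec, ?_, ?_⟩
  · rw [← Spec.map_comp_assoc]
    congr 2
    ext c
    apply IsFractionRing.injective A' (FractionRing A')
    refine Eq.trans ?_ (congrArg (fun φ : Γ(X, V) ⟶ CommRingCat.of (FractionRing A') => φ c) hkey).symm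
    exact congrArg (fun ψ : CommRingCat.of A ⟶ CommRingCat.of (FractionRing A') => ψ (φ c)) hek
  · rw [hΘ, ← Spec.map_comp_assoc]
    rfl

end Groth.Agent.DVRCrit
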